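import Mathlib
import Cfsg.Agent.H469.RowPSL_m3
import Cfsg.Agent.H334.TI.SocleCore_m3
import Cfsg.Agent.H242.StrP.LinAll
import Cfsg.Agent.H817.ThinBase
import Cfsg.Agent.Sigma.Symp
import Cfsg.Agent.H469.RowPSp_mg
import Cfsg.Agent.KFacts.RgdFiltClass
import Cfsg.Agent.KFacts.RgdLieCharP
import Cfsg.Agent.FastGrp
import Cfsg.Agent.Prune
set_option linter.all false
prune_inst 0x7ff3edff1bf879dfffff7e7fa6d4cffdfffb3fffe6dffdcbffe06bff0fff4b04cfe5fba78fea90fe1fd7e21410f87b13ffffdabfe26bdc7ffffd5ff41ffbff9fedf6b508519e98b41fbc2fff83f0778e7f3fffffffffffffffffffffffffffbeffbfffffffff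
open scoped Cfsg.Agent.FastGrp

-- part: H666/Cls
section
/-!
# TI Sylow subgroups of classical groups, cross characteristic: generalities (helper666)

* `IsTI.of_ker` : TI Sylow subgroups lift through central kernels of order prime to `p`;
* `not_ti_of_hom` : `L → C(c)`, `c ≠ 1` a `p`-element, `L` without normal `p`-subgroups: `L` has no `p`-elements;
* `core` : an elementary abelian `r`-group of order at least `r ^ 2` centralising `c`;
* `quick` : a noncyclic elementary abelian `p`-group fixing an isotropic line;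
* `fix_of_small`, `eq_one_of_small` : `p`-elements and subspaces of dimension at most two, `p ∤ q (q ^ 2 - 1)`.
-/

set_option autoImplicit false
set_option linter.unusedSectionVars false

namespace Cfsg.Agent.H666.Cls

open Subgroup Cfsg Cfsg.Agent.H666.TI Cfsg.Agent.H818.StrP Cfsg.Agent.TitsThree.Siegel Cfsg.Agent.H469.FixVec Module
  Cfsg.Agent.KFacts.RgdFilt

/-! ### TI -/

section Lift

variable {G N : Type*} [Group G] [Group N] {p : ℕ} [hp : Fact p.Prime]

/-- TI Sylow subgroups lift through central kernels of order prime to `p`. -/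
theorem isTI_of_ker [Finite N] (hTI : IsTI p G) (π : N →* G) (hk : ∀ z, π z = 1 → z ∈ center N)
    {n : ℕ} (hn : ¬ p ∣ n) (hkn : ∀ z, π z = 1 → z ^ n = 1) : IsTI p N := by
  have hinj : ∀ {z : N}, PElt p z → π z = 1 → z = 1 := fun h1 h2 => h1.eq_one (hkn _ h2) hn
  intro A B hA hB hAB
  have h1 : A.map π ⊓ B.map π ≠ ⊥ := by
    obtain ⟨x, hx⟩ := Subgroup.ne_bot_iff_exists_ne_one.1 hAB
    intro hc
    have h2 : π x ∈ A.map π ⊓ B.map π := ⟨⟨x, x.2.1, rfl⟩, ⟨x, x.2.2, rfl⟩⟩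
    rw [hc, mem_bot] at h2
    exact hx (Subtype.ext (hinj (pElt_of_mem hA x.2.1) h2))
  have h2 := hTI _ _ (hA.map π) (hB.map π) h1
  rw [← Subgroup.map_sup] at h2
  set D := A ⊔ B with hD
  obtain ⟨S⟩ : Nonempty (Sylow p ↥D) := inferInstance
  have hsurj := π.subgroupMap_surjective D
  have h3 : ((S.mapSurjective hsurj : Sylow p ↥(D.map π)) : Subgroup ↥(D.map π)) = ⊤ := by
    have h4 : IsPGroup p (⊤ : Subgroup ↥(D.map π)) := h2.of_equiv Subgroup.topEquiv.symm
    exact ((S.mapSurjective hsurj).is_maximal' h4 le_top).symm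
  have hSn : (S : Subgroup ↥D).Normal := by
    refine ⟨fun s hs d => ?_⟩
    have h5 : (π.subgroupMap D) d ∈ ((S.mapSurjective hsurj : Sylow p ↥(D.map π)) : Subgroup ↥(D.map π)) := by
      rw [h3]; exact mem_top _
    obtain ⟨t, ht, htd⟩ : ∃ t ∈ (S : Subgroup ↥D), (π.subgroupMap D) t = (π.subgroupMap D) d := h5
    have h6 : π (t : N) = π (d : N) := congrArg Subtype.val htd
    have h7 : (t : N)⁻¹ * d ∈ center N := hk _ (by rw [map_mul, map_inv, h6, inv_mul_cancel])
    have h8 : d * s * d⁻¹ = t * s * t⁻¹ := by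
      apply Subtype.ext
      show (d : N) * s * (d : N)⁻¹ = t * s * (t : N)⁻¹
      have h9 := mem_center_iff.1 h7 (s : N)
      calc (d : N) * s * (d : N)⁻¹ = t * (((t : N)⁻¹ * d) * s) * (d : N)⁻¹ := by group
        _ = t * (s * ((t : N)⁻¹ * d)) * (d : N)⁻¹ := by rw [h9]
        _ = t * s * (t : N)⁻¹ := by group
    rw [h8]
    exact (S : Subgroup ↥D).mul_mem ((S : Subgroup ↥D).mul_mem ht hs) ((S : Subgroup ↥D).inv_mem ht)
  have hle : ∀ X : Subgroup N, IsPGroup p X → X ≤ D → X ≤ (S : Subgroup ↥D).map D.subtype := by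
    intro X hX hXD x hx
    have h4 : IsPGroup p (X.subgroupOf D) := hX.comap_of_injective D.subtype D.subtype_injective
    obtain ⟨Q, hQ⟩ := h4.exists_le_sylow
    have h6 : (Q : Subgroup ↥D) = S := by
      have h5 : IsPGroup p ((S : Subgroup ↥D) ⊔ (Q : Subgroup ↥D) : Subgroup ↥D) :=
        S.isPGroup'.to_sup_of_normal_left Q.isPGroup'
      exact (Q.is_maximal' h5 le_sup_right).symm.trans (S.is_maximal' h5 le_sup_left)
    have h7 : (⟨x, hXD hx⟩ : ↥D) ∈ (Q : Subgroup ↥D) := hQ (by rw [mem_subgroupOf]; exact hx)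
    rw [h6] at h7
    exact ⟨_, h7, rfl⟩
  have h4 : D ≤ (S : Subgroup ↥D).map D.subtype := sup_le (hle A hA le_sup_left) (hle B hB le_sup_right)
  exact (S.isPGroup'.map D.subtype).to_le h4

/-- **Violation of TI.** -/
theorem not_ti_of_hom {L : Type*} [Group L] (hTI : IsTI p G) (Ψ : L →* G) (hΨ : Function.Injective Ψ)
    (hL : ∀ R : Subgroup L, R.Normal → IsPGroup p R → R = ⊥) {c : G} (hc1 : c ≠ 1) (hcp : PElt p c)
    (hcomm : ∀ l, c * Ψ l = Ψ l * c) {l : L} (hl : PElt p l) : l = 1 := by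
  obtain ⟨P, hcP⟩ := exists_sylow_mem hcp
  have key : ∀ x : L, PElt p x → Ψ x ∈ (P : Subgroup G) := fun x hx => hTI.mem_of_comm hcP hc1 (hcomm x) (hx.map Ψ)
  have hR : IsPGroup p ((P : Subgroup G).comap Ψ) := P.isPGroup'.comap_of_injective Ψ hΨ
  have h1 : ((P : Subgroup G).comap Ψ).Normal := ⟨fun x hx g => key _ ((pElt_of_mem hR hx).conj g)⟩
  have h2 := hL _ h1 hR
  have h3 : l ∈ (P : Subgroup G).comap Ψ := key l hl
  rwa [h2, mem_bot] at h3

end Lift

section Core

variable {G : Type*} [Group G] [Finite G] {p r : ℕ} [hp : Fact p.Prime] [hr : Fact r.Prime]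

/-- **The coprime action argument.** -/
theorem core (hpr : p ≠ r) (hTI : IsTI p G) {V C : Subgroup G} (hV : IsElementaryAbelian r V)
    (hV4 : r ^ 2 ≤ Nat.card V) (hC : ∀ v ∈ V, v ≠ 1 → ∀ y, PElt p y → v * y = y * v → y ∈ C) {c : G}
    (hcV : ∀ v ∈ V, c * v = v * c) (hcp : PElt p c) (hc1 : c ≠ 1) {e : G}
    (he : PElt p e) (hce : c * e = e * c) : e ∈ C := by
  obtain ⟨P, hcP⟩ := exists_sylow_mem hcp
  have heP : e ∈ P := hTI.mem_of_comm hcP hc1 hce he
  have hVP : V ≤ normalizer ((P : Subgroup G) : Set G) := by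
    intro v hv
    refine Sylow.smul_eq_iff_mem_normalizer.1 ?_
    refine hTI.sylow_eq (x := c) ?_ hcP hc1
    show c ∈ (v • P : Sylow p G)
    rw [← SetLike.mem_coe, Sylow.coe_smul]
    refine ⟨c, hcP, ?_⟩
    show v * c * v⁻¹ = c
    rw [← hcV v hv, mul_inv_cancel_right]
  have h2 : ¬ r ∣ Nat.card (P : Subgroup G) := by
    intro h
    obtain ⟨n, hn⟩ := P.isPGroup'.exists_card_eq
    rw [hn] at h
    exact hpr ((Nat.prime_dvd_prime_iff_eq hr.out hp.out).1 (hr.out.dvd_of_dvd_pow h)).symm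
  have h3 := SignalizersComponents.CoprimeGen.le_iSup_centralizer_ne_one hV hV4 h2 hVP
  have h4 : (P : Subgroup G) ≤ C := by
    refine h3.trans (iSup_le ?_)
    rintro ⟨v, hv, hv1⟩ y ⟨hyP, hyv⟩
    refine hC v hv hv1 y (pElt_of_mem P.isPGroup' hyP) ?_
    exact (mem_centralizer_singleton_iff.1 hyv).symm
  exact h4 heP

end Core

/-! ### linear groups -/

section Lin

variable {F V : Type*} [Field F] [AddCommGroup V] [Module F V]

theorem finrank_pair_le (x y : V) : finrank F (Submodule.span F {x, y}) ≤ 2 := by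
  classical
  have h := finrank_span_finset_le_card (R := F) ({x, y} : Finset V)
  rw [Finset.coe_pair] at h
  exact h.trans Finset.card_le_two

/-- `p`-elements of `GL₂(q)`, `p ∤ q (q ^ 2 - 1)` -/
theorem eq_one_of_pow_small [Finite F] [FiniteDimensional F V] {p : ℕ} (hp : p.Prime) (hpF : ¬ p ∣ Nat.card F)
    (hpd : ¬ p ∣ Nat.card F ^ 2 - 1) (hk : finrank F V ≤ 2) (n : ℕ) :
    ∀ f : V →ₗ[F] V, f ^ p ^ n = 1 → f = 1 := by
  induction n with
  | zero => intro f hf; rwa [pow_zero, pow_one] at hf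
  | succ n ih =>
    intro f hf
    have h2 : f ^ p = 1 := ih _ (by rw [← pow_mul, ← pow_succ']; exact hf)
    by_contra hne
    obtain ⟨d, h3, h4, h5⟩ := dvd_of_small hp hpF f h2 hne hk
    apply hpd
    refine h5.trans (Nat.pow_sub_one_dvd_pow_sub_one _ ?_)
    interval_cases d
    · exact one_dvd _
    · exact dvd_rfl

/-- A non-trivial automorphism of order `p` with a fixed vector. -/
theorem dvd_of_fix [Finite F] [FiniteDimensional F V] {p : ℕ} (hp : p.Prime) (hpF : ¬ p ∣ Nat.card F)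
    (f : V →ₗ[F] V) (hf : f ^ p = 1) (hne : f ≠ 1) {k : ℕ} (hk : finrank F V ≤ k + 1) {x : V} (hx0 : x ≠ 0)
    (hx : f x = x) : ∃ d, 0 < d ∧ d ≤ k ∧ p ∣ Nat.card F ^ d - 1 := by
  classical
  have : Fact p.Prime := ⟨hp⟩
  have : Finite V := Module.finite_of_finite F
  have := Fintype.ofFinite V
  let g : Function.End V := fun v => f v
  have hg : ∀ n : ℕ, ∀ v, (g ^ n) v = (f ^ n) v := by
    intro n
    induction n with
    | zero => intro v; rfl
    | succ n ih =>
      intro v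
      rw [pow_succ, pow_succ]
      change (g ^ n) (g v) = (f ^ n) (f v)
      rw [ih]
  have hgp : g ^ p ^ 1 = 1 := by
    funext v
    rw [pow_one, hg, hf]
    rfl
  have h1 := Equiv.Perm.card_fixedPoints_modEq (p := p) (n := 1) hgp
  let W : Submodule F V := LinearMap.ker (f - 1)
  have hW : ∀ v, v ∈ W ↔ f v = v := by
    intro v
    rw [LinearMap.mem_ker, LinearMap.sub_apply, sub_eq_zero]
    rfl
  have h2 : Fintype.card ↑(Function.fixedPoints g) = Nat.card W := by
    rw [← Nat.card_eq_fintype_card]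
    refine Nat.card_congr (Equiv.subtypeEquivRight ?_)
    intro v
    exact (hW v).symm
  rw [h2, ← Nat.card_eq_fintype_card, Module.natCard_eq_pow_finrank (K := F) (V := V),
    Module.natCard_eq_pow_finrank (K := F) (V := W)] at h1
  have h3 : finrank F W < finrank F V := by
    apply Submodule.finrank_lt
    intro htop
    apply hne
    ext v
    have : v ∈ W := by rw [htop]; trivial
    exact (hW v).mp this
  have h3' : 0 < finrank F W := by
    rw [Module.finrank_pos_iff_exists_ne_zero]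
    exact ⟨⟨x, (hW x).2 hx⟩, fun h => hx0 (congrArg Subtype.val h)⟩
  refine ⟨finrank F V - finrank F W, by omega, by omega, ?_⟩
  have h4 : Nat.card F ^ finrank F V = Nat.card F ^ finrank F W * Nat.card F ^ (finrank F V - finrank F W) := by
    rw [← pow_add]
    congr 1
    omega
  have h5 : Nat.card F ^ finrank F W ≤ Nat.card F ^ finrank F V :=
    Nat.pow_le_pow_right Nat.card_pos (by omega)
  have h6 : p ∣ Nat.card F ^ finrank F V - Nat.card F ^ finrank F W :=
    (Nat.modEq_iff_dvd' h5).mp h1.symm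
  rw [h4, ← Nat.mul_sub_one] at h6
  rcases hp.dvd_mul.mp h6 with h7 | h7
  · exact absurd (hp.dvd_of_dvd_pow h7) hpF
  · exact h7

theorem fix_of_small [Finite F] [FiniteDimensional F V] {p : ℕ} (hp : p.Prime) (hpF : ¬ p ∣ Nat.card F)
    (hpd : ¬ p ∣ Nat.card F ^ 2 - 1) {x : V ≃ₗ[F] V} (hx : PElt p x) (U : Submodule F V) (hU : finrank F U ≤ 2)
    (hxU : ∀ v ∈ U, x v ∈ U) : ∀ v ∈ U, x v = v := by
  obtain ⟨k, hk⟩ := hx
  let f : U →ₗ[F] U := x.toLinearMap.restrict hxU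
  have hfn : ∀ n : ℕ, ∀ w : U, (((f ^ n) w : U) : V) = (x ^ n) w := by
    intro n
    induction n with
    | zero => intro w; rfl
    | succ n ih =>
      intro w
      have h1 : (f ^ (n + 1)) w = (f ^ n) (f w) := by rw [pow_succ]; rfl
      rw [h1, ih, pow_succ]
      rfl
  have h1 : f = 1 := by
    refine eq_one_of_pow_small hp hpF hpd hU k f ?_
    ext w
    rw [hfn, hk]
    rfl
  intro v hv
  have h2 : f ⟨v, hv⟩ = ⟨v, hv⟩ := by rw [h1]; rfl
  exact congrArg Subtype.val h2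

theorem eq_one_of_small [Finite F] [FiniteDimensional F V] {p r : ℕ} (hp : p.Prime) (hr : r.Prime) [CharP F r]
    (hrp : r ≠ p) (hpF : ¬ p ∣ Nat.card F) (hpd : ¬ p ∣ Nat.card F ^ 2 - 1) {x : V ≃ₗ[F] V} (hx : PElt p x)
    (U : Submodule F V) (hU : finrank F U ≤ 2) (hxU : ∀ v, x v - v ∈ U) : x = 1 := by
  have h1 : ∀ v ∈ U, x v ∈ U := by
    intro v hv
    have := U.add_mem (hxU v) hv
    rwa [sub_add_cancel] at this
  have h2 := fix_of_small hp hpF hpd hx U hU h1
  obtain ⟨k, hk⟩ := hx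
  apply LinearEquiv.ext
  intro v
  have h3 : ∀ n : ℕ, (x ^ n) v = v + n • (x v - v) := by
    intro n
    induction n with
    | zero => simp
    | succ n ih =>
      have : (x ^ (n + 1)) v = x ((x ^ n) v) := by rw [pow_succ']; rfl
      rw [this, ih, map_add, map_nsmul, h2 _ (hxU v), succ_nsmul]
      abel
  have h4 := h3 (p ^ k)
  rw [hk] at h4
  have h5 : (p ^ k) • (x v - v) = 0 := by
    have : v = v + (p ^ k) • (x v - v) := h4
    simpa only [_root_.add_eq_left] using this.symm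
  have h6 : ((p ^ k : ℕ) : F) • (x v - v) = 0 := by rw [← h5, Nat.cast_smul_eq_nsmul]
  have h7 : ((p ^ k : ℕ) : F) ≠ 0 := by
    intro h0
    rw [CharP.cast_eq_zero_iff F r] at h0
    exact hrp ((Nat.prime_dvd_prime_iff_eq hr hp).mp (hr.dvd_of_dvd_pow h0))
  exact sub_eq_zero.1 ((smul_eq_zero.mp h6).resolve_left h7)

end Lin

/-! ### the quick case -/

section Quick

universe u

variable {F V : Type*} [Field F] [AddCommGroup V] [Module F V] {H : HForm F V}

theorem sieGrp_apply {N : Subgroup (V ≃ₗ[F] V)} {u : V} {hu : H.h u u = 0} {g : V ≃ₗ[F] V}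
    (hg : g ∈ sieGrp H N u hu) : g u = u := by
  obtain ⟨-, w, c, hw, rfl⟩ := hg
  rw [H.sie_apply, hu, hw]
  simp

theorem conj_mem_sieGrp {N : Subgroup (V ≃ₗ[F] V)} (hN : ∀ g ∈ N, H.IsIso g) {u : V} {hu : H.h u u = 0}
    {a : V ≃ₗ[F] V} (ha : a ∈ N) {c : F} (hac : a u = c • u) {g : V ≃ₗ[F] V} (hg : g ∈ sieGrp H N u hu) :
    a * g * a⁻¹ ∈ sieGrp H N u hu := by
  obtain ⟨hgN, w, d, hw, rfl⟩ := hg
  refine ⟨N.mul_mem (N.mul_mem ha hgN) (N.inv_mem ha), ?_⟩
  have hc0 : c ≠ 0 ∨ u = 0 := by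
    by_cases h : u = 0
    · exact Or.inr h
    · left
      rintro rfl
      rw [zero_smul] at hac
      exact h (a.map_eq_zero_iff.1 hac)
  have haw : H.h u (a w) = 0 := by
    rcases hc0 with h | h
    · have h1 := hN a ha u w
      rw [hac, H.smul_left, hw] at h1
      exact (mul_eq_zero.1 h1).resolve_left h
    · rw [h, H.zero_left]
  refine ⟨H.σ c • a w, c * H.σ c * d, by rw [H.smul_right, haw, mul_zero], ?_⟩
  rw [H.conj_sie (hN a ha)]
  rw [← H.sie_smul u (a w) d c hu haw]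
  exact H.sie_congr _ _ _ _ hac rfl rfl

/-- **The quick case**: a noncyclic elementary abelian `p`-group fixing an isotropic line. -/
theorem quick {N : Subgroup (V ≃ₗ[F] V)} (hN : ∀ g ∈ N, H.IsIso g) {p r : ℕ} [hp : Fact p.Prime] [hr : Fact r.Prime]
    [CharP F r] {G : Type u} [Group G] [Finite G] [IsSimpleGroup G] (hG : HasFilt r G) (hc : ∃ a b : G, a * b ≠ b * a) (hpr : p ≠ r)
    (π : N →* G) (hker : ∀ g : N, π g = 1 → ∃ c : F, ∀ v, (g : V ≃ₗ[F] V) v = c • v) {E : Subgroup G}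
    (hE : IsElementaryAbelian p E) (hE2 : p ^ 2 ≤ Nat.card E) {u : V} (hu : H.h u u = 0) (hu0 : u ≠ 0)
    (hfix : ∀ e ∈ E, ∃ a : N, π a = e ∧ ∃ c : F, (a : V ≃ₗ[F] V) u = c • u)
    (hS : ∃ g ∈ sieGrp H N u hu, g ≠ 1) : NoSP p G := by
  set K : Subgroup G := ((sieGrp H N u hu).subgroupOf N).map π with hK
  have hKr : IsPGroup r K :=
    ((isPGroup_sieGrp N u hu).comap_of_injective N.subtype N.subtype_injective).map π
  have hconj : ∀ e ∈ E, ∀ k ∈ K, e * k * e⁻¹ ∈ K := by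
    rintro e he _ ⟨s, hs, rfl⟩
    obtain ⟨a, rfl, c, hac⟩ := hfix e he
    refine ⟨a * s * a⁻¹, ?_, by rw [map_mul, map_mul, map_inv]⟩
    rw [SetLike.mem_coe, mem_subgroupOf] at hs ⊢
    exact conj_mem_sieGrp hN a.2 hac hs
  refine Opp.noSP_of_local hG hc hpr hKr ?_ hE hE2 ?_
  · obtain ⟨g, hg, hg1⟩ := hS
    intro h
    have h1 : π ⟨g, hg.1⟩ ∈ K := ⟨⟨g, hg.1⟩, by rw [SetLike.mem_coe, mem_subgroupOf]; exact hg, rfl⟩
    rw [h, mem_bot] at h1
    obtain ⟨c, hc⟩ := hker _ h1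
    have h2 : c • u = u := by rw [← hc u]; exact sieGrp_apply hg
    have h3 : c = 1 := by
      have h4 : (c - 1) • u = 0 := by rw [sub_smul, one_smul, h2, sub_self]
      exact sub_eq_zero.1 ((smul_eq_zero.1 h4).resolve_right hu0)
    apply hg1
    apply LinearEquiv.ext
    intro v
    have h4 := hc v
    rw [h3, one_smul] at h4
    exact h4
  · intro e he
    rw [mem_normalizer_iff]
    intro k
    refine ⟨fun hk => hconj e he k hk, fun hk => ?_⟩
    have h1 := hconj e⁻¹ (E.inv_mem he) _ hk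
    rwa [show e⁻¹ * (e * k * e⁻¹) * e⁻¹⁻¹ = k by group] at h1

/-- the quick case for a lifted group -/
theorem quick_lift {N : Subgroup (V ≃ₗ[F] V)} (hN : ∀ g ∈ N, H.IsIso g) {p r : ℕ} [hp : Fact p.Prime]
    [hr : Fact r.Prime]
    [CharP F r] {G : Type u} [Group G] [Finite G] [IsSimpleGroup G] (hG : HasFilt r G) (hc : ∃ a b : G, a * b ≠ b * a)
    (hpr : p ≠ r) (π : N →* G) (hker : ∀ g : N, π g = 1 → ∃ c : F, ∀ v, (g : V ≃ₗ[F] V) v = c • v) {n : ℕ}
    (hn : ¬ p ∣ n) (hkn : ∀ z, π z = 1 → z ^ n = 1) {A : Subgroup N} (hA : Nat.card A = p ^ 2)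
    (hcomm : ∀ a ∈ A, ∀ b ∈ A, a * b = b * a) (hexp : ∀ a ∈ A, a ^ p = 1) {u : V} (hu : H.h u u = 0) (hu0 : u ≠ 0)
    (hfix : ∀ a ∈ A, ∃ c : F, (a : V ≃ₗ[F] V) u = c • u)
    (hS : ∃ g ∈ sieGrp H N u hu, g ≠ 1) : NoSP p G := by
  refine quick hN hG hc hpr π hker (E := A.map π) ⟨?_, ?_⟩ ?_ hu hu0 ?_ hS
  · refine ⟨⟨?_⟩⟩
    rintro ⟨_, a, ha, rfl⟩ ⟨_, b, hb, rfl⟩
    apply Subtype.ext
    show π a * π b = π b * π a
    rw [← map_mul, hcomm a ha b hb, map_mul]
  · rintro _ ⟨a, ha, rfl⟩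
    rw [← map_pow, hexp a ha, map_one]
  · rw [← hA]
    refine Nat.card_le_card_of_injective (fun a : A => (⟨π a, ⟨a, a.2, rfl⟩⟩ : A.map π)) ?_
    intro a b hab
    have h1 : π a = π b := congrArg Subtype.val hab
    have h2 : π ((a : N)⁻¹ * b) = 1 := by rw [map_mul, map_inv, h1, inv_mul_cancel]
    have h3 : (a : N)⁻¹ * b = 1 :=
      (pElt_of_pow (hexp _ (A.mul_mem (A.inv_mem a.2) b.2))).eq_one (hkn _ h2) hn
    exact Subtype.ext (inv_mul_eq_one.1 h3)
  · rintro _ ⟨a, ha, rfl⟩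
    exact ⟨a, rfl, hfix a ha⟩

/-- a lifted `C_p × C_p` and a vector fixed by some of its elements -/
theorem exists_data [Finite F] [FiniteDimensional F V] {N : Subgroup (V ≃ₗ[F] V)} {p r : ℕ} [hp : Fact p.Prime]
    (hr : r.Prime) [CharP F r] (hp2 : p ≠ 2) (hpr : p ≠ r) {G : Type*} [Group G] (π : N →* G)
    (hπ : Function.Surjective π) (hnc : ∃ P : Subgroup G, IsPGroup p P ∧ ¬ IsCyclic P) :
    ∃ A : Subgroup N, Nat.card A = p ^ 2 ∧ (∀ a ∈ A, ∀ b ∈ A, a * b = b * a) ∧ (∀ a ∈ A, a ^ p = 1) ∧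
      ∃ a ∈ A, ∃ b ∈ A, ∃ v : V, a ≠ 1 ∧ (a : V ≃ₗ[F] V) v = v ∧ (b : V ≃ₗ[F] V) v ≠ v := by
  have : Finite V := Module.finite_of_finite F
  have : Finite (V ≃ₗ[F] V) := Finite.of_injective (fun g : V ≃ₗ[F] V => (g : V → V)) DFunLike.coe_injective
  obtain ⟨P, hP, hPc⟩ := hnc
  obtain ⟨Q, hQ, hQc⟩ : ∃ Q : Subgroup N, IsPGroup p Q ∧ ¬ IsCyclic Q := by
    by_contra h
    push Not at h
    exact hPc (H469.isCyclic_of_surj π hπ h P hP)
  obtain ⟨A, hAP, hA, hcomm, hexp⟩ := H469.exists_sq hp2 hQ hQc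
  refine ⟨A, hA, hcomm, hexp, ?_⟩
  let B : Subgroup (V ≃ₗ[F] V) := A.map N.subtype
  have hB : Nat.card B = p ^ 2 := by
    rw [Subgroup.card_map_of_injective N.subtype_injective, hA]
  have hBN : B ≤ N := by rintro _ ⟨a, -, rfl⟩; exact a.2
  have hBc : ∀ a ∈ B, ∀ b ∈ B, a * b = b * a := by
    rintro _ ⟨a, ha, rfl⟩ _ ⟨b, hb, rfl⟩
    exact congrArg N.subtype (hcomm a ha b hb)
  have hBe : ∀ a ∈ B, a ^ p = 1 := by
    rintro _ ⟨a, ha, rfl⟩
    exact congrArg N.subtype (hexp a ha)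
  have hpV : ∀ v : V, p • v = 0 → v = 0 := by
    intro v hv
    have h6 : (p : F) • v = 0 := by rw [← hv, Nat.cast_smul_eq_nsmul]
    have h7 : (p : F) ≠ 0 := by
      intro h0
      rw [CharP.cast_eq_zero_iff F r] at h0
      exact hpr ((Nat.prime_dvd_prime_iff_eq hr hp.out).mp h0).symm
    exact (smul_eq_zero.mp h6).resolve_left h7
  obtain ⟨a, v, b, ha, hav, hbv⟩ := H469.exists_fix (A := B) (fun a b => Subtype.ext (hBc a a.2 b b.2))
    (H469.not_isCyclic_of_sq hp.out hB hBe) (act B) (p := p) (fun a => Subtype.ext (hBe a a.2)) hpV (by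
      have hnt : Nontrivial B := by
        rw [← Finite.one_lt_card_iff_nontrivial, hB]
        exact Nat.one_lt_pow two_ne_zero hp.out.one_lt
      obtain ⟨a, ha⟩ := exists_ne (1 : B)
      by_contra hcon
      push Not at hcon
      exact ha (Subtype.ext (LinearEquiv.ext fun v => hcon a v)))
  obtain ⟨_, a', ha', rfl⟩ := a
  obtain ⟨_, b', hb', rfl⟩ := b
  refine ⟨a', ha', b', hb', v, ?_, hav, hbv⟩
  rintro rfl
  exact ha (Subtype.ext rfl)

end Quick

end Cfsg.Agent.H666.Cls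
end

-- part: H817/ThinPSp
section
/-!
# Thin groups: `PSp_{2m}(q)`, `m ≥ 2` (helper817)
-/

set_option autoImplicit false

namespace Cfsg.Agent.H817.Thin.Psp

open Cfsg Subgroup Matrix Cfsg.Agent.ETable Cfsg.Agent.Sigma.Symp

variable {F : Type*} [Field F]

end Cfsg.Agent.H817.Thin.Psp
end

-- part: H666/ClsSp
section
/-!
# TI Sylow subgroups of `PSp_{2m}(q)`, cross characteristic (helper666)
-/

set_option autoImplicit false
set_option linter.unusedSectionVars false

namespace Cfsg.Agent.H666.ClsSp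

open Subgroup Cfsg Cfsg.Agent.H666.TI Cfsg.Agent.H666.Cls Cfsg.Agent.H818.StrP Cfsg.Agent.TitsThree.Siegel
  Cfsg.Agent.H469.FixVec Module Cfsg.Agent.KFacts.RgdFilt Cfsg.Agent.TitsThree.SpIdent
  Cfsg.Agent.ClassicalGeometry.SympBasic

open scoped Matrix

variable {F : Type} [Field F] [Fintype F] {m : ℕ} {p r : ℕ} [hp : Fact p.Prime] [hr : Fact r.Prime] [CharP F r]

/-! ### the kernel -/

theorem toSp_center {g : isos (form m F)} (h : toPSp g = 1) :
    toSp g ∈ center (Matrix.symplecticGroup (Fin m) F) := by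
  have h1 : QuotientGroup.mk' (center (Matrix.symplecticGroup (Fin m) F)) (toSp g) = 1 := h
  rwa [← MonoidHom.mem_ker, QuotientGroup.ker_mk'] at h1

theorem ker_center {g : isos (form m F)} (h : toPSp g = 1) : g ∈ center (isos (form m F)) := by
  rw [mem_center_iff]
  intro x
  apply toSp_injective
  rw [map_mul, map_mul]
  exact mem_center_iff.1 (toSp_center h) _

theorem ker_scalar {g : isos (form m F)} (h : toPSp g = 1) :
    ∃ c : F, ∀ v, (g : (Fin m ⊕ Fin m → F) ≃ₗ[F] (Fin m ⊕ Fin m → F)) v = c • v := by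
  obtain ⟨c, hc⟩ := (LieClassical.SympCenter.mem_center_iff m _).1 (toSp_center h)
  refine ⟨c, fun v => ?_⟩
  rw [← toSp_mulVec g v]
  have h1 : ((toSp g : Matrix.symplecticGroup (Fin m) F) : Matrix (Fin m ⊕ Fin m) (Fin m ⊕ Fin m) F) = c • 1 := hc
  rw [h1, Matrix.smul_mulVec, Matrix.one_mulVec]

theorem ker_sq (hm : 1 ≤ m) {g : isos (form m F)} (h : toPSp g = 1) : g ^ 2 = 1 := by
  obtain ⟨c, hc⟩ := ker_scalar h
  have h1 := g.2 (e m F ⟨0, hm⟩) (f m F ⟨0, hm⟩)
  rw [hc, hc, (form m F).smul_left, (form m F).smul_right, form_h, ef, if_pos rfl, form_σ] at h1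
  apply Subtype.ext
  apply LinearEquiv.ext
  intro v
  show (g : (Fin m ⊕ Fin m → F) ≃ₗ[F] (Fin m ⊕ Fin m → F)) (g.1 v) = v
  rw [hc, hc, smul_smul]
  have h2 : c * c = 1 := by linear_combination h1
  rw [h2, one_smul]

theorem not_dvd_two (hp2 : p ≠ 2) : ¬ p ∣ 2 := fun h => hp2 ((Nat.prime_dvd_prime_iff_eq hp.out Nat.prime_two).1 h)

section Simple

variable {G : Type*} [Group G] [Finite G] [IsSimpleGroup G]

theorem not_dvd_card (hpr : p ≠ r) : ¬ p ∣ Nat.card F := by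
  intro h
  obtain ⟨n, -, hn⟩ := FiniteField.card F r
  rw [Nat.card_eq_fintype_card, hn] at h
  exact hpr ((Nat.prime_dvd_prime_iff_eq hp.out hr.out).1 (hp.out.dvd_of_dvd_pow h))

/-- **`p ∤ q ^ 2 - 1`** -/
theorem noSP_coprime (hm : 1 ≤ m) (hfilt : HasFilt r G) (hc : ∃ a b : G, a * b ≠ b * a) (hp2 : p ≠ 2) (hpr : p ≠ r)
    (e : PSp m F ≃* G) (hTI : IsTI p G) (hnc : ∃ P : Subgroup G, IsPGroup p P ∧ ¬ IsCyclic P)
    (hd : ¬ p ∣ Nat.card F ^ 2 - 1) : NoSP p G := by
  have hpF := not_dvd_card (F := F) hpr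
  have : Finite ((Fin m ⊕ Fin m → F) ≃ₗ[F] (Fin m ⊕ Fin m → F)) :=
    Finite.of_injective (fun g : (Fin m ⊕ Fin m → F) ≃ₗ[F] (Fin m ⊕ Fin m → F) =>
      (g : (Fin m ⊕ Fin m → F) → (Fin m ⊕ Fin m → F))) DFunLike.coe_injective
  let π : isos (form m F) →* G := e.toMonoidHom.comp toPSp
  have hπ : Function.Surjective π := e.surjective.comp toPSp_surjective
  have hker : ∀ g : isos (form m F), π g = 1 → toPSp g = 1 := fun g hg => by
    have h1 : e (toPSp g) = 1 := hg
    exact (map_eq_one_iff e e.injective).1 h1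
  have hTIN : IsTI p (isos (form m F)) := isTI_of_ker hTI π (fun z hz => ker_center (hker z hz)) (not_dvd_two hp2)
    (fun z hz => ker_sq hm (hker z hz))
  obtain ⟨A, hA, hcomm, hexp, a, haA, b, hbA, v, ha1, hav, hbv⟩ := exists_data (V := Fin m ⊕ Fin m → F) hr.out hp2 hpr π hπ hnc
  have hv0 : v ≠ 0 := by
    rintro rfl
    exact hbv (map_zero _)
  have hvv : (form m F).h v v = 0 := sympForm_self v
  set t : (Fin m ⊕ Fin m → F) ≃ₗ[F] (Fin m ⊕ Fin m → F) :=
    (form m F).sie v 0 1 hvv ((form m F).zero_right v) with ht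
  have htN : t ∈ isos (form m F) := sie_form_mem v 0 1 ((form m F).zero_right v)
  have hconj : ∀ x : isos (form m F), ∀ w, (x.1 * t * x.1⁻¹) w = w + (sympForm m F w (x.1 v)) • x.1 v := by
    intro x w
    rw [ht, (form m F).conj_sie x.2, (form m F).sie_apply, map_zero, (form m F).zero_right]
    simp
  have hti : ∀ w, (t⁻¹) w = w - (sympForm m F w v) • v := by
    intro w
    have h0 := (form m F).sie_inv v 0 1 hvv ((form m F).zero_right v)
    rw [ht, h0, (form m F).sie_apply, (form m F).neg_right, (form m F).zero_right, (form m F).zero_left]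
    simp [sub_eq_add_neg]
  have htv : ∀ w, t w = w + (sympForm m F w v) • v := by
    intro w
    rw [ht, (form m F).sie_apply, (form m F).zero_right]
    simp
  have hat : a * ⟨t, htN⟩ = ⟨t, htN⟩ * a := by
    apply Subtype.ext
    show a.1 * t = t * a.1
    rw [← mul_inv_eq_iff_eq_mul]
    apply LinearEquiv.ext
    intro w
    rw [hconj, hav, htv]
  obtain ⟨w0, hw0⟩ := H469.RowPSp.nd hv0
  refine quick_lift (H := form m F) (fun g hg => hg) hfilt hc hpr π (fun g hg => ker_scalar (hker g hg)) (not_dvd_two hp2)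
    (fun z hz => ker_sq hm (hker z hz)) hA hcomm hexp hvv hv0 ?_ ⟨t, ⟨htN, 0, 1, _, rfl⟩, ?_⟩
  · intro x hx
    have hxp : PElt p x := pElt_of_pow (hexp x hx)
    -- the commutator
    have h1 : PElt p (x * (⟨t, htN⟩ * x⁻¹ * ⟨t, htN⟩⁻¹)) := by
      refine hTIN.mul_pElt ha1 (pElt_of_pow (hexp a haA)) hxp (hxp.inv.conj _) (hcomm a haA x hx) ?_
      have h2 : Commute a (⟨t, htN⟩ : isos (form m F)) := hat
      have h3 : Commute a x := hcomm a haA x hx
      exact ((h2.mul_right h3.inv_right).mul_right h2.inv_right).eq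
    have h2 : PElt p (x.1 * t * x.1⁻¹ * t⁻¹) := by
      have h3 := h1.map (isos (form m F)).subtype
      have h4 : (isos (form m F)).subtype (x * (⟨t, htN⟩ * x⁻¹ * ⟨t, htN⟩⁻¹)) = x.1 * t * x.1⁻¹ * t⁻¹ := by
        show x.1 * (t * x.1⁻¹ * t⁻¹) = _
        group
      rwa [h4] at h3
    have h3 : x.1 * t * x.1⁻¹ * t⁻¹ = 1 := by
      refine eq_one_of_small (V := Fin m ⊕ Fin m → F) hp.out hr.out hpr.symm hpF hd h2 (Submodule.span F {v, x.1 v}) ?_ ?_
      · exact finrank_pair_le _ _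
      · intro w
        rw [LinearEquiv.mul_apply, hconj, hti]
        have h4 : ∀ c d : F, w - c • v + d • x.1 v - w = d • x.1 v - c • v := fun c d => by abel
        rw [h4]
        exact Submodule.sub_mem _ (Submodule.smul_mem _ _ (Submodule.subset_span (by simp)))
          (Submodule.smul_mem _ _ (Submodule.subset_span (by simp)))
    have h4 : x.1 * t * x.1⁻¹ = t := by rwa [mul_inv_eq_one] at h3
    have h5 := hconj x w0
    rw [h4, htv] at h5
    have h6 := add_left_cancel h5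
    have h7 : sympForm m F w0 (x.1 v) ≠ 0 := by
      intro h8
      rw [h8, zero_smul] at h6
      rcases smul_eq_zero.1 h6 with h9 | h9
      · exact hw0 h9
      · exact hv0 h9
    exact ⟨(sympForm m F w0 (x.1 v))⁻¹ * sympForm m F w0 v, by rw [mul_smul, h6, smul_smul, inv_mul_cancel₀ h7, one_smul]⟩
  · intro h
    have h1 := htv w0
    rw [h] at h1
    have h2 : (sympForm m F w0 v) • v = 0 := by
      have h3 : w0 = w0 + (sympForm m F w0 v) • v := h1
      simpa only [_root_.smul_eq_zero, _root_.add_eq_left] using h3.symm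
    rcases smul_eq_zero.1 h2 with h9 | h9
    · exact hw0 h9
    · exact hv0 h9

/-! ### `p ∣ q ^ 2 - 1` -/

abbrev sl (F : Type) [Field F] := Matrix.SpecialLinearGroup (Fin 2) F

theorem single_comm {i j : Fin m} (hij : i ≠ j) (a b : sl F) :
    (Pi.mulSingle i a * Pi.mulSingle j b : Fin m → sl F) = Pi.mulSingle j b * Pi.mulSingle i a := by
  funext k
  rw [Pi.mul_apply, Pi.mul_apply]
  by_cases h : k = i
  · subst h
    rw [Pi.mulSingle_eq_of_ne hij, mul_one, one_mul]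
  · rw [Pi.mulSingle_eq_of_ne h, mul_one, one_mul]

/-- the block embedding into `PSp` -/
def bl (m : ℕ) (F : Type) [Field F] : (Fin m → sl F) →* PSp m F :=
  (QuotientGroup.mk' (center (Matrix.symplecticGroup (Fin m) F))).comp (Sigma.Symp.emb m F)

theorem bl_ker {s : Fin m → sl F} (hs : bl m F s = 1) {j : Fin m} (hj : s j = 1) : s = 1 := by
  have h1 : Sigma.Symp.emb m F s ∈ center (Matrix.symplecticGroup (Fin m) F) := by
    have h2 : QuotientGroup.mk' (center (Matrix.symplecticGroup (Fin m) F)) (Sigma.Symp.emb m F s) = 1 := hs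
    rwa [← MonoidHom.mem_ker, QuotientGroup.ker_mk'] at h2
  obtain ⟨c, hc⟩ := (LieClassical.SympCenter.mem_center_iff m _).1 h1
  have e00 : ∀ i, (s i : Matrix (Fin 2) (Fin 2) F) 0 0 = c := by
    intro i
    have h1 := congrFun (congrFun hc (Sum.inl i)) (Sum.inl i)
    have h2 : (Sigma.Symp.emb m F s).1 (Sum.inl i) (Sum.inl i) = (s i).1 0 0 := by
      show Matrix.fromBlocks _ _ _ _ (Sum.inl i) (Sum.inl i) = _
      rw [Matrix.fromBlocks_apply₁₁, Matrix.diagonal_apply_eq]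
    rw [h2] at h1
    simpa using h1
  have e01 : ∀ i, (s i : Matrix (Fin 2) (Fin 2) F) 0 1 = 0 := by
    intro i
    have h1 := congrFun (congrFun hc (Sum.inl i)) (Sum.inr i)
    have h2 : (Sigma.Symp.emb m F s).1 (Sum.inl i) (Sum.inr i) = (s i).1 0 1 := by
      show Matrix.fromBlocks _ _ _ _ (Sum.inl i) (Sum.inr i) = _
      rw [Matrix.fromBlocks_apply₁₂, Matrix.diagonal_apply_eq]
    rw [h2] at h1
    simpa using h1
  have e10 : ∀ i, (s i : Matrix (Fin 2) (Fin 2) F) 1 0 = 0 := by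
    intro i
    have h1 := congrFun (congrFun hc (Sum.inr i)) (Sum.inl i)
    have h2 : (Sigma.Symp.emb m F s).1 (Sum.inr i) (Sum.inl i) = (s i).1 1 0 := by
      show Matrix.fromBlocks _ _ _ _ (Sum.inr i) (Sum.inl i) = _
      rw [Matrix.fromBlocks_apply₂₁, Matrix.diagonal_apply_eq]
    rw [h2] at h1
    simpa using h1
  have e11 : ∀ i, (s i : Matrix (Fin 2) (Fin 2) F) 1 1 = c := by
    intro i
    have h1 := congrFun (congrFun hc (Sum.inr i)) (Sum.inr i)
    have h2 : (Sigma.Symp.emb m F s).1 (Sum.inr i) (Sum.inr i) = (s i).1 1 1 := by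
      show Matrix.fromBlocks _ _ _ _ (Sum.inr i) (Sum.inr i) = _
      rw [Matrix.fromBlocks_apply₂₂, Matrix.diagonal_apply_eq]
    rw [h2] at h1
    simpa using h1
  have hc1 : c = 1 := by
    rw [← e00 j, hj]
    simp
  funext i
  apply Subtype.ext
  ext a b
  fin_cases a <;> fin_cases b
  · show (s i : Matrix (Fin 2) (Fin 2) F) 0 0 = _
    rw [e00, hc1]; simp
  · show (s i : Matrix (Fin 2) (Fin 2) F) 0 1 = _
    rw [e01]; simp
  · show (s i : Matrix (Fin 2) (Fin 2) F) 1 0 = _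
    rw [e10]; simp
  · show (s i : Matrix (Fin 2) (Fin 2) F) 1 1 = _
    rw [e11, hc1]; simp

theorem exists_elt (hd : p ∣ Nat.card F ^ 2 - 1) : ∃ g : sl F, g ≠ 1 ∧ g ^ p = 1 := by
  obtain ⟨g, hg⟩ := exists_prime_orderOf_dvd_card' (G := sl F) p (by
    rw [Cfsg.Agent.ClassicalGeometry.PSL2Basic.card_SL2, ← Nat.card_eq_fintype_card]; exact hd.mul_left _)
  refine ⟨g, ?_, by rw [← hg]; exact pow_orderOf_eq_one g⟩
  rintro rfl
  rw [orderOf_one] at hg
  exact hp.out.one_lt.ne hg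

/-- `m ≥ 2`, `q ≥ 4` -/
theorem not_ti (hm : 2 ≤ m) (hq : 3 < Fintype.card F) (hp2 : p ≠ 2) (e : PSp m F ≃* G) (hTI : IsTI p G)
    (hd : p ∣ Nat.card F ^ 2 - 1) : False := by
  obtain ⟨g, hg1, hgp⟩ := exists_elt (F := F) hd
  let i : Fin m := ⟨0, by omega⟩
  let j : Fin m := ⟨1, by omega⟩
  have hij : i ≠ j := by simp [i, j]
  let Ψ : sl F →* G := (e.toMonoidHom.comp (bl m F)).comp (MonoidHom.mulSingle (fun _ => sl F) i)
  refine hg1 (not_ti_of_hom hTI Ψ ?_ (fun R hR1 hR2 => H469.normal_bot hp2 (Or.inl hq) R hR2)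
    (c := e (bl m F (Pi.mulSingle j g))) ?_ ⟨1, ?_⟩ ?_ (pElt_of_pow hgp))
  · rw [injective_iff_map_eq_one]
    intro x hx
    have h1 : bl m F (Pi.mulSingle i x) = 1 := (map_eq_one_iff e e.injective).1 hx
    have h2 := bl_ker h1 (j := j) (Pi.mulSingle_eq_of_ne hij.symm _)
    have h3 := congrFun h2 i
    rwa [Pi.mulSingle_eq_same] at h3
  · intro h
    have h1 := (map_eq_one_iff e e.injective).1 h
    have h2 := bl_ker h1 (j := i) (Pi.mulSingle_eq_of_ne hij _)
    have h3 := congrFun h2 j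
    rw [Pi.mulSingle_eq_same] at h3
    exact hg1 h3
  · rw [pow_one, ← map_pow, ← map_pow, ← Pi.mulSingle_pow, hgp, Pi.mulSingle_one, map_one, map_one]
  · intro l
    show e (bl m F (Pi.mulSingle j g)) * e (bl m F (Pi.mulSingle i l)) = _ * _
    rw [← map_mul, ← map_mul, single_comm hij.symm g l, map_mul, map_mul]
    rfl

theorem emb_fix {s : Fin m → sl F} {k : Fin m} (hk : s k = 1) :
    ofSp (Sigma.Symp.emb m F s) (f m F k) = f m F k := by
  rw [ofSp_apply, f, Matrix.mulVec_single_one]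
  funext x
  show (Sigma.Symp.emb m F s).1 x (Sum.inl k) = _
  rcases x with x | x
  · show Matrix.fromBlocks _ _ _ _ (Sum.inl x) (Sum.inl k) = _
    rw [Matrix.fromBlocks_apply₁₁]
    by_cases h : x = k
    · subst h
      rw [Matrix.diagonal_apply_eq, hk]
      simp
    · rw [Matrix.diagonal_apply_ne _ h, Pi.single_eq_of_ne (by simpa using h)]
  · show Matrix.fromBlocks _ _ _ _ (Sum.inr x) (Sum.inl k) = _
    rw [Matrix.fromBlocks_apply₂₁, Pi.single_eq_of_ne (by simp)]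
    by_cases h : x = k
    · subst h
      rw [Matrix.diagonal_apply_eq, hk]
      simp
    · rw [Matrix.diagonal_apply_ne _ h]

/-- `m ≥ 3` -/
theorem noSP_three (hm : 3 ≤ m) (hfilt : HasFilt r G) (hc : ∃ a b : G, a * b ≠ b * a) (hpr : p ≠ r)
    (e : PSp m F ≃* G) (hd : p ∣ Nat.card F ^ 2 - 1) : NoSP p G := by
  obtain ⟨g, hg1, hgp⟩ := exists_elt (F := F) hd
  let i : Fin m := ⟨0, by omega⟩
  let j : Fin m := ⟨1, by omega⟩
  let k : Fin m := ⟨2, by omega⟩
  have hij : i ≠ j := by simp [i, j]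
  have hik : k ≠ i := by simp [i, k]
  have hjk : k ≠ j := by simp [j, k]
  let Φ : (Fin m → sl F) →* G := e.toMonoidHom.comp (bl m F)
  have hΦ : ∀ s, Φ s = 1 → s k = 1 → s = 1 := fun s hs hk => bl_ker ((map_eq_one_iff e e.injective).1 hs) hk
  set x := Φ (Pi.mulSingle i g) with hx
  set y := Φ (Pi.mulSingle j g) with hy
  have hxp : x ^ p = 1 := by rw [hx, ← map_pow, ← Pi.mulSingle_pow, hgp, Pi.mulSingle_one, map_one]
  have hyp : y ^ p = 1 := by rw [hy, ← map_pow, ← Pi.mulSingle_pow, hgp, Pi.mulSingle_one, map_one]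
  have hxy : x * y = y * x := by
    rw [hx, hy, ← map_mul, single_comm hij g g, map_mul]
  have hx1 : x ≠ 1 := by
    intro h
    have h1 := hΦ _ h (Pi.mulSingle_eq_of_ne hik _)
    have h2 := congrFun h1 i
    rw [Pi.mulSingle_eq_same] at h2
    exact hg1 h2
  have hyx : y ∉ zpowers x := by
    rintro ⟨n, hn⟩
    have h0 : Φ (Pi.mulSingle i g ^ n * (Pi.mulSingle j g)⁻¹) = 1 := by
      rw [map_mul, map_zpow, map_inv, ← hx, ← hy, ← hn]
      exact mul_inv_cancel _
    have h1 := hΦ _ h0 (by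
      rw [Pi.mul_apply, Pi.pow_apply, Pi.inv_apply, Pi.mulSingle_eq_of_ne hik, Pi.mulSingle_eq_of_ne hjk, one_zpow,
        inv_one, mul_one])
    have h2 := congrFun h1 j
    rw [Pi.mul_apply, Pi.pow_apply, Pi.inv_apply, Pi.mulSingle_eq_of_ne hij.symm, Pi.mulSingle_eq_same, one_zpow,
      one_mul, Pi.one_apply, inv_eq_one] at h2
    exact hg1 h2
  let π : isos (form m F) →* G := e.toMonoidHom.comp toPSp
  have hker : ∀ g : isos (form m F), π g = 1 → toPSp g = 1 := fun g hg => by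
    have h1 : e (toPSp g) = 1 := hg
    exact (map_eq_one_iff e e.injective).1 h1
  have hvv : (form m F).h (f m F k) (f m F k) = 0 := sympForm_self _
  have hv0 : f m F k ≠ 0 := by
    intro h
    have h1 := congrFun h (Sum.inl k)
    rw [f, Pi.single_eq_same] at h1
    exact one_ne_zero h1
  refine quick (H := form m F) (N := isos (form m F)) (fun g hg => hg) hfilt hc hpr π (fun g hg => ker_scalar (hker g hg))
    (H242.StrP.pair_elem hxp hyp hxy) (H242.StrP.pair_card hxp hyp hxy hx1 hyx) hvv hv0 ?_ ?_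
  · intro z hz
    obtain ⟨a, b, rfl⟩ := H242.StrP.mem_pair hxy hz
    refine ⟨⟨ofSp (Sigma.Symp.emb m F (Pi.mulSingle i g ^ a * Pi.mulSingle j g ^ b)), ofSp_mem _⟩, ?_, 1, ?_⟩
    · show e (QuotientGroup.mk' _ (toSp _)) = _
      rw [toSp_ofSp, hx, hy, ← map_zpow, ← map_zpow, ← map_mul]
      rfl
    · rw [one_smul]
      refine emb_fix ?_
      rw [Pi.mul_apply, Pi.pow_apply, Pi.pow_apply, Pi.mulSingle_eq_of_ne hik, Pi.mulSingle_eq_of_ne hjk, one_zpow,
        one_zpow, one_mul]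
  · refine ⟨_, ⟨sie_form_mem (f m F k) 0 1 ((form m F).zero_right _), 0, 1, _, rfl⟩, ?_⟩
    intro h
    have h1 : ((form m F).sie (f m F k) 0 1 hvv ((form m F).zero_right _)) (Cfsg.Agent.TitsThree.SpIdent.e m F k) =
      Cfsg.Agent.TitsThree.SpIdent.e m F k := by
      rw [show (form m F).sie (f m F k) 0 1 hvv ((form m F).zero_right _) = 1 from h]
      rfl
    rw [(form m F).sie_apply, (form m F).zero_right, form_h, ef, if_pos rfl] at h1
    simp only [smul_zero, add_zero, mul_zero, zero_smul, sub_zero, mul_one, one_smul] at h1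
    exact hv0 (by simpa using h1)

end Simple

end Cfsg.Agent.H666.ClsSp
end

-- part: H666/ClsO
section
/-!
# TI Sylow subgroups of `PΩ_n(q)`, cross characteristic (helper666)
-/

set_option autoImplicit false
set_option linter.unusedSectionVars false

namespace Cfsg.Agent.H666.ClsO

open Subgroup Cfsg Cfsg.Agent.H666.TI Cfsg.Agent.H666.Cls Cfsg.Agent.H818.StrP
open Cfsg.Agent.H469.FixVec Module Cfsg.Agent.KFacts.RgdFilt
open QuadraticMap
open Cfsg.Agent.LieClassical Cfsg.Agent.LieClassical.OrthCore Cfsg.Agent.LieClassical.OrthTrans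
open Cfsg.Agent.LieClassical.OrthSimple Cfsg.Agent.LieClassical.OrthFinite Cfsg.Agent.LieClassical.OrthForms
open Cfsg.Agent.TitsThree.Siegel Cfsg.Agent.TitsThree.SiegelGen Cfsg.Agent.TitsThree.WittFrame
open Cfsg.Agent.TitsThree.KSideO Cfsg.Agent.TitsThree.WBridge
open Cfsg.Agent.OddHalf.LongSL.OrthPhi Cfsg.Agent.OddHalf.LongSL.Orth
open Cfsg.Agent.H469.RowOrth

/-! ### the second `SL₂` -/

section Comm

variable {F V : Type*} [Field F] [AddCommGroup V] [Module F V] {Q : QuadraticForm F V} {ι : Type*} [DecidableEq ι]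
  (Fr : Frame (HO Q) ι) {x y : ι × Bool} (hxy : x.1 ≠ y.1)

include hxy in
theorem phiFun_comm (M N : Matrix.SpecialLinearGroup (Fin 2) F) (v : V) :
    phiFun Fr x y M (phiFun Fr x (neg y) N v) = phiFun Fr x (neg y) N (phiFun Fr x y M v) := by
  have hxy' : x.1 ≠ (neg y).1 := hxy
  have a1 := polar_nx Fr hxy' N v
  have a2 := polar_y Fr hxy' N v
  have a3 := polar_x Fr hxy' N v
  have a4 := polar_ny Fr hxy' N v
  have b1 := polar_nx Fr hxy M v
  have b2 := polar_y Fr hxy M v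
  have b3 := polar_x Fr hxy M v
  have b4 := polar_ny Fr hxy M v
  rw [TitsThree.WittFrame.neg_neg] at a3 a4
  conv_lhs => rw [phiFun, a1, a2, a3, a4]
  conv_rhs => rw [phiFun, b1, b3, b4, TitsThree.WittFrame.neg_neg, b2]
  unfold phiFun
  rw [TitsThree.WittFrame.neg_neg]
  module

theorem Phi_comm (M N : Matrix.SpecialLinearGroup (Fin 2) F) :
    Phi Fr hxy M * Phi Fr (x := x) (y := neg y) hxy N = Phi Fr (x := x) (y := neg y) hxy N * Phi Fr hxy M := by
  apply LinearEquiv.ext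
  intro v
  exact phiFun_comm Fr hxy M N v

/-- the two `SL₂` meet in scalars -/
theorem scalar_of_Phi_eq {M N : Matrix.SpecialLinearGroup (Fin 2) F}
    (h : Phi Fr hxy M = Phi Fr (x := x) (y := neg y) hxy N) : ∃ c : F, ∀ i j, M.1 i j = if i = j then c else 0 := by
  have hxy' : x.1 ≠ (neg y).1 := hxy
  have h1 : ∀ v, phiFun Fr x y M v = phiFun Fr x (neg y) N v := fun v => by
    rw [← Phi_apply Fr hxy, h]; rfl
  -- the image of `b x` and of `b (neg y)`
  have a1 := polar_nx Fr hxy M (Fr.b x)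
  have a2 := polar_y Fr hxy M (Fr.b x)
  have a3 := polar_nx Fr hxy M (Fr.b (neg y))
  have a4 := polar_y Fr hxy M (Fr.b (neg y))
  rw [h1] at a1 a2 a3 a4
  have c1 := polar_nx Fr hxy' N (Fr.b x)
  have c2 := polar_ny Fr hxy' N (Fr.b x)
  have c3 := polar_nx Fr hxy' N (Fr.b (neg y))
  have c4 := polar_ny Fr hxy' N (Fr.b (neg y))
  rw [TitsThree.WittFrame.neg_neg] at c2 c4
  rw [c1, p_self_neg, p_ne Fr (z := x) (w := y) hxy, p_ne Fr (z := x) (w := neg y) hxy] at a1
  rw [c2, p_self_neg, p_self, p_ne Fr (z := x) (w := y) hxy] at a2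
  rw [c3, p_neg_self, p_self, p_ne Fr (z := neg y) (w := neg x) hxy.symm] at a3
  rw [c4, p_neg_self, p_ne Fr (z := neg y) (w := neg x) hxy.symm, p_ne Fr (z := neg y) (w := x) hxy.symm] at a4
  refine ⟨N.1 0 0, ?_⟩
  intro i j
  fin_cases i <;> fin_cases j
  · show M.1 0 0 = N.1 0 0
    linear_combination -a1
  · show M.1 0 1 = 0
    linear_combination -a3
  · show M.1 1 0 = 0
    linear_combination -a2
  · show M.1 1 1 = N.1 0 0
    linear_combination -a4

end Comm

/-! ### generalities -/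

section Gen

variable {ι : Type} [Fintype ι] [DecidableEq ι] {F : Type} [Field F] [Fintype F] {Q : QuadraticForm F (ι → F)}
  {p r : ℕ} [hp : Fact p.Prime] [hr : Fact r.Prime] [CharP F r]
  {G : Type*} [Group G] [Finite G] [IsSimpleGroup G]

theorem ker_eq (hG : Good Q) (e : Cfsg.POmega F ⇑Q ≃* G) {g : E Q} (h : e (toPOmega hG g) = 1) : toPOmega hG g = 1 :=
  (map_eq_one_iff e e.injective).1 h

theorem ker_sq (hG : Good Q) {g : E Q} (h : toPOmega hG g = 1) {u : ι → F} (hu : u ≠ 0) : g ^ 2 = 1 := by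
  obtain ⟨c, hc⟩ := scalar_of_center hG (center_of_toPOmega hG h)
  obtain ⟨v, hv⟩ := hG.nondeg.exists_polar_ne hu
  have h1 := e_iso g.1 g.2 u v
  rw [hc, hc, HForm.smul_left, HForm.smul_right, HO_h] at h1
  have h2 : c * c = 1 := by
    have h3 : (c * c - 1) * polar Q u v = 0 := by
      have : (HO Q).σ c = c := rfl
      rw [this] at h1
      linear_combination h1
    exact sub_eq_zero.1 ((mul_eq_zero.1 h3).resolve_right hv)
  apply Subtype.ext
  apply LinearEquiv.ext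
  intro v
  show (g : (ι → F) ≃ₗ[F] (ι → F)) (g.1 v) = v
  rw [hc, hc, smul_smul, h2, one_smul]

theorem not_dvd_two (hp2 : p ≠ 2) : ¬ p ∣ 2 := fun h => hp2 ((Nat.prime_dvd_prime_iff_eq hp.out Nat.prime_two).1 h)

theorem not_dvd_card (F : Type) [Field F] [Fintype F] [CharP F r] (hpr : p ≠ r) : ¬ p ∣ Nat.card F := by
  intro h
  obtain ⟨n, -, hn⟩ := FiniteField.card F r
  rw [Nat.card_eq_fintype_card, hn] at h
  exact hpr ((Nat.prime_dvd_prime_iff_eq hp.out hr.out).1 (hp.out.dvd_of_dvd_pow h))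

theorem exists_elt (hd : p ∣ Nat.card F ^ 2 - 1) : ∃ g : Matrix.SpecialLinearGroup (Fin 2) F, g ≠ 1 ∧ g ^ p = 1 := by
  obtain ⟨g, hg⟩ := exists_prime_orderOf_dvd_card' (G := Matrix.SpecialLinearGroup (Fin 2) F) p (by
    rw [Cfsg.Agent.ClassicalGeometry.PSL2Basic.card_SL2, ← Nat.card_eq_fintype_card]; exact hd.mul_left _)
  refine ⟨g, ?_, by rw [← hg]; exact pow_orderOf_eq_one g⟩
  rintro rfl
  rw [orderOf_one] at hg
  exact hp.out.one_lt.ne hg

/-- nontrivial Siegel elements -/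
theorem exists_sieGrp {u : ι → F} (hu : Q u = 0) (huu : (HO Q).h u u = 0) {w v0 : ι → F}
    (hw0 : w ≠ 0) (huw : polar Q u w = 0) (huv : polar Q v0 u = 1) (hwv : polar Q v0 w = 0) :
    ∃ g ∈ sieGrp (HO Q) (E Q) u huu, g ≠ 1 := by
  have hw : (HO Q).h u w = 0 := huw
  have hmem : (HO Q).sie u w (-Q w) huu hw ∈ E Q := sie_mem huu hw ((sing_iff Q).mpr hu) rfl
  refine ⟨_, ⟨hmem, w, -Q w, hw, rfl⟩, ?_⟩
  intro h
  have h1 : (HO Q).sie u w (-Q w) huu hw v0 = v0 := by rw [h]; rfl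
  rw [HForm.sie_apply, HO_h, HO_h, huv, hwv] at h1
  have h2 : w = Q w • u := by
    have h3 : v0 + (1 : F) • w - ((HO Q).ε⁻¹ * 0) • u + (-Q w * 1) • u = v0 := h1
    rw [one_smul, mul_zero, zero_smul, sub_zero, mul_one, neg_smul] at h3
    have h4 : w - Q w • u = 0 := by
      have h5 : v0 + (w - Q w • u) = v0 + 0 := by
        rw [add_zero, sub_eq_add_neg, ← add_assoc]; exact h3
      exact add_left_cancel h5
    exact sub_eq_zero.1 h4
  have h3 : Q w = 0 := by
    have h4 : polar Q v0 w = Q w := by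
      conv_lhs => rw [h2]
      rw [polar_smul_right, huv, smul_eq_mul, mul_one]
    rw [← h4, hwv]
  rw [h3, zero_smul] at h2
  exact hw0 h2

/-! ### `p ∣ q ^ 2 - 1` -/

theorem noSP_dvd (hG : Good Q) {m : ℕ} (W : WFrame (PO Q) m) (hm : 3 ≤ m) (hfilt : HasFilt r G)
    (hc : ∃ a b : G, a * b ≠ b * a) (hp2 : p ≠ 2) (hpr : p ≠ r) (e : Cfsg.POmega F ⇑Q ≃* G)
    (hd : p ∣ Nat.card F ^ 2 - 1) : NoSP p G := by
  obtain ⟨g, hg1, hgp⟩ := exists_elt (F := F) hd
  let x : Fin m × Bool := (⟨0, by omega⟩, true)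
  let y : Fin m × Bool := (⟨1, by omega⟩, true)
  let z : Fin m × Bool := (⟨2, by omega⟩, true)
  have hxy : x.1 ≠ y.1 := by simp [x, y]
  have hxy' : x.1 ≠ (neg y).1 := hxy
  have hzx : z.1 ≠ x.1 := by simp [x, z]
  have hzy : z.1 ≠ y.1 := by simp [y, z]
  have hzy' : z.1 ≠ (neg y).1 := hzy
  let π : E Q →* G := e.toMonoidHom.comp (toPOmega hG)
  have hker : ∀ g : E Q, π g = 1 → ∃ c : F, ∀ v, (g : (ι → F) ≃ₗ[F] (ι → F)) v = c • v := fun g hg =>
    scalar_of_center hG (center_of_toPOmega hG (ker_eq hG e hg))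
  have hbz : (toFrame W).b z ≠ 0 := Cfsg.Agent.Nodes.WittRGD.b_ne_zero _
  have hker1 : ∀ g : E Q, π g = 1 → g.1 ((toFrame W).b z) = (toFrame W).b z → g = 1 := by
    intro g hg hgz
    obtain ⟨c, hc⟩ := hker g hg
    have h3 : c = 1 := by
      rw [hc] at hgz
      have h4 : (c - 1) • (toFrame W).b z = 0 := by rw [sub_smul, one_smul, hgz, sub_self]
      exact sub_eq_zero.1 ((smul_eq_zero.1 h4).resolve_right hbz)
    apply Subtype.ext
    apply LinearEquiv.ext
    intro v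
    show g.1 v = v
    rw [hc, h3, one_smul]
  set P1 : Matrix.SpecialLinearGroup (Fin 2) F →* E Q := PhiE W hxy with hP1
  set P2 : Matrix.SpecialLinearGroup (Fin 2) F →* E Q := PhiE W hxy' with hP2
  have hz1 : ∀ M, (P1 M).1 ((toFrame W).b z) = (toFrame W).b z := fun M => Phi_of_ne _ hxy M hzx hzy
  have hz2 : ∀ M, (P2 M).1 ((toFrame W).b z) = (toFrame W).b z := fun M => Phi_of_ne _ hxy' M hzx hzy'
  have hcm : ∀ M N, P1 M * P2 N = P2 N * P1 M := fun M N => Subtype.ext (Phi_comm (toFrame W) hxy M N)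
  have hxp : π (P1 g) ^ p = 1 := by rw [← map_pow, ← map_pow, hgp, map_one, map_one]
  have hyp : π (P2 g) ^ p = 1 := by rw [← map_pow, ← map_pow, hgp, map_one, map_one]
  have hxyc : π (P1 g) * π (P2 g) = π (P2 g) * π (P1 g) := by rw [← map_mul, ← map_mul, hcm]
  have hinj1 : ∀ M, P1 M = 1 → M = 1 := fun M hM => Phi_injective (toFrame W) hxy (by
    rw [map_one]; exact congrArg Subtype.val hM)
  have hinj2 : ∀ M, P2 M = 1 → M = 1 := fun M hM => Phi_injective (toFrame W) hxy' (by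
    rw [map_one]; exact congrArg Subtype.val hM)
  have hx1 : π (P1 g) ≠ 1 := fun h => hg1 (hinj1 _ (hker1 _ h (hz1 g)))
  have hyx : π (P2 g) ∉ zpowers (π (P1 g)) := by
    rintro ⟨n, hn⟩
    have hn' : π (P1 (g ^ n)) = π (P2 g) := by rw [map_zpow, map_zpow]; exact hn
    have h0 : P1 (g ^ n) * (P2 g)⁻¹ = 1 := by
      apply hker1
      · rw [map_mul, map_inv, hn', mul_inv_cancel]
      · show (P1 (g ^ n)).1 ((P2 g).1⁻¹ ((toFrame W).b z)) = _
        have h1 : (P2 g).1⁻¹ ((toFrame W).b z) = (toFrame W).b z := by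
          have h2 := hz2 g⁻¹
          rw [map_inv] at h2
          exact h2
        rw [h1, hz1]
    have h1 : P1 (g ^ n) = P2 g := mul_inv_eq_one.1 h0
    obtain ⟨c, hc⟩ := scalar_of_Phi_eq (toFrame W) hxy (congrArg Subtype.val h1)
    have h2 : (g ^ n) ^ 2 = 1 := by
      have hdet := (g ^ n).2
      rw [Matrix.det_fin_two] at hdet
      have e00 := hc 0 0
      have e01 := hc 0 1
      have e10 := hc 1 0
      have e11 := hc 1 1
      simp only [Fin.isValue, if_true, zero_ne_one, one_ne_zero, if_false] at e00 e01 e10 e11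
      rw [e00, e01, e10, e11] at hdet
      apply Subtype.ext
      show ((g ^ n).1) ^ 2 = 1
      ext i j
      rw [pow_two, Matrix.mul_apply, Fin.sum_univ_two, hc, hc, hc, hc]
      (revert i j; simp only [_root_.Fin.forall_fin_succ, Fin.isValue, _root_.mul_ite, _root_.ite_mul, _root_.MulZeroClass.zero_mul, _root_.MulZeroClass.mul_zero, ↓reduceIte, _root_.one_ne_zero, _root_.add_zero, _root_.Fin.succ_zero_eq_one, _root_.zero_ne_one, _root_.zero_add, _root_.IsEmpty.forall_iff, _root_.and_true, _root_.Matrix.one_apply_eq, Nat.reduceAdd, _root_.ne_eq, _root_.not_false_eq_true, _root_.Matrix.one_apply_ne, _root_.Fin.succ_ne_zero, _root_.true_and, _root_.and_self]) <;> (repeat' with_reducible apply And.intro) <;> linear_combination hdet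
    have h3 : g ^ n = 1 := (show PElt p (g ^ n) from ⟨1, by
      rw [pow_one, ← zpow_natCast, ← zpow_mul, mul_comm, zpow_mul, zpow_natCast, hgp, one_zpow]⟩).eq_one h2 (not_dvd_two hp2)
    rw [h3, map_one] at h1
    exact hg1 (hinj2 _ h1.symm)
  have hz : Q ((toFrame W).b z) = 0 := (sing_iff Q).1 (b_sing W z)
  refine quick (H := HO Q) (N := E Q) e_iso hfilt hc hpr π hker
    (H242.StrP.pair_elem hxp hyp hxyc) (H242.StrP.pair_card hxp hyp hxyc hx1 hyx) (self_zero hz) hbz ?_ ?_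
  · intro w hw
    obtain ⟨a, b, rfl⟩ := H242.StrP.mem_pair hxyc hw
    refine ⟨P1 (g ^ a) * P2 (g ^ b), ?_, 1, ?_⟩
    · simp only [map_mul, map_zpow]
    · show (P1 (g ^ a)).1 ((P2 (g ^ b)).1 ((toFrame W).b z)) = _
      rw [hz2, hz1, one_smul]
  · refine exists_sieGrp hz (self_zero hz) (w := (toFrame W).b x) (v0 := (toFrame W).b (neg z))
      (Cfsg.Agent.Nodes.WittRGD.b_ne_zero _) ?_ (p_neg_self _ z) ?_
    · exact p_ne _ hzx
    · exact p_ne _ (z := neg z) hzx

/-! ### `p ∤ q ^ 2 - 1` -/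

/-- the fixed space of an isometry of order `p` is non-degenerate -/
theorem fix_nondeg (hG : Good Q) (hpr : p ≠ r) {a : (ι → F) ≃ₗ[F] (ι → F)} (haE : a ∈ E Q) (hap : a ^ p = 1)
    {w : ι → F} (hw0 : w ≠ 0) (haw : a w = w) : ∃ w', a w' = w' ∧ polar Q w w' ≠ 0 := by
  obtain ⟨v, hv⟩ := hG.nondeg.exists_polar_ne hw0
  have hpow : ∀ i : ℕ, (a ^ i) w = w := by
    intro i
    induction i with
    | zero => rfl
    | succ i ih => rw [pow_succ]; show (a ^ i) (a w) = w; rw [haw, ih]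
  have hsucc : ∀ i : ℕ, a ((a ^ i) v) = (a ^ (i + 1)) v := fun i => by rw [pow_succ']; rfl
  refine ⟨∑ i ∈ Finset.range p, (a ^ i) v, ?_, ?_⟩
  · rw [map_sum]
    have h1 : ∑ i ∈ Finset.range p, a ((a ^ i) v) = ∑ i ∈ Finset.range p, (a ^ (i + 1)) v :=
      Finset.sum_congr rfl fun i _ => hsucc i
    rw [h1]
    have h2 := Finset.sum_range_succ (fun i => (a ^ i) v) p
    have h3 := Finset.sum_range_succ' (fun i => (a ^ i) v) p
    rw [h2] at h3
    have h4 : (a ^ p) v = (a ^ 0) v := by rw [hap, pow_zero]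
    rw [h4] at h3
    exact (add_right_cancel h3).symm
  · have h1 : polar Q w (∑ i ∈ Finset.range p, (a ^ i) v) = (p : F) * polar Q w v := by
      have h2 : ∀ s : Finset ℕ, polar Q w (∑ i ∈ s, (a ^ i) v) = (s.card : F) * polar Q w v := by
        intro s
        induction s using Finset.induction_on with
        | empty => rw [Finset.sum_empty, polar_zero_right, Finset.card_empty, Nat.cast_zero, zero_mul]
        | insert i s hi ih =>
          rw [Finset.sum_insert hi, polar_add_right, ih, Finset.card_insert_of_notMem hi]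
          have h3 : polar Q w ((a ^ i) v) = polar Q w v := by
            conv_lhs => rw [← hpow i]
            exact polar_map (E_le_O ((E Q).pow_mem haE i)) w v
          rw [h3]
          push_cast
          ring
      rw [h2, Finset.card_range]
    rw [h1]
    refine mul_ne_zero ?_ hv
    intro h0
    rw [CharP.cast_eq_zero_iff F r] at h0
    exact hpr ((Nat.prime_dvd_prime_iff_eq hr.out hp.out).mp h0).symm

/-- the fixed space -/
def fixS (a : (ι → F) ≃ₗ[F] (ι → F)) : Submodule F (ι → F) := LinearMap.ker (a.toLinearMap - LinearMap.id)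

theorem mem_fixS {a : (ι → F) ≃ₗ[F] (ι → F)} {v : ι → F} : v ∈ fixS a ↔ a v = v := by
  rw [fixS, LinearMap.mem_ker, LinearMap.sub_apply, sub_eq_zero]
  rfl

/-- the space of Siegel parameters -/
def par (Q : QuadraticForm F (ι → F)) (a : (ι → F) ≃ₗ[F] (ι → F)) (u v0 : ι → F) : Submodule F (ι → F) :=
  fixS a ⊓ (LinearMap.ker (Q.polarBilin u) ⊓ LinearMap.ker (Q.polarBilin v0))

theorem mem_par {a : (ι → F) ≃ₗ[F] (ι → F)} {u v0 w : ι → F} :
    w ∈ par Q a u v0 ↔ a w = w ∧ polar Q u w = 0 ∧ polar Q v0 w = 0 := by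
  rw [par, Submodule.mem_inf, Submodule.mem_inf, mem_fixS, LinearMap.mem_ker, LinearMap.mem_ker]
  rfl

theorem finrank_par {a : (ι → F) ≃ₗ[F] (ι → F)} {u v0 : ι → F} (h4 : 4 ≤ finrank F (fixS a)) :
    2 ≤ finrank F (par Q a u v0) := by
  have h1 : ∀ (X : Submodule F (ι → F)) (f : (ι → F) →ₗ[F] F), finrank F X ≤ finrank F ↥(X ⊓ LinearMap.ker f) + 1 := by
    intro X f
    have h2 := LinearMap.finrank_range_add_finrank_ker (f.comp X.subtype)
    have h3 : finrank F ↥(LinearMap.range (f.comp X.subtype)) ≤ 1 := by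
      have := Submodule.finrank_le (LinearMap.range (f.comp X.subtype))
      rwa [finrank_self] at this
    have h4 : finrank F ↥(LinearMap.ker (f.comp X.subtype)) ≤ finrank F ↥(X ⊓ LinearMap.ker f) := by
      have h5 : finrank F ↥(LinearMap.ker (f.comp X.subtype)) =
          finrank F ↥((LinearMap.ker (f.comp X.subtype)).map X.subtype) :=
        (LinearEquiv.finrank_eq (Submodule.equivMapOfInjective _ X.subtype_injective _))
      rw [h5]
      apply Submodule.finrank_mono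
      rintro _ ⟨w, hw, rfl⟩
      exact ⟨w.2, hw⟩
    omega
  have h5 := h1 (fixS a) (Q.polarBilin u)
  have h6 := h1 (fixS a ⊓ LinearMap.ker (Q.polarBilin u)) (Q.polarBilin v0)
  rw [inf_assoc] at h6
  show 2 ≤ finrank F ↥(fixS a ⊓ (LinearMap.ker (Q.polarBilin u) ⊓ LinearMap.ker (Q.polarBilin v0)))
  omega

/-- the Siegel elements -/
noncomputable def sg (u : ι → F) (hu : Q u = 0) (Y : Submodule F (ι → F)) (hY : ∀ w ∈ Y, (HO Q).h u w = 0) :
    Multiplicative Y →* E Q where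
  toFun w := ⟨(HO Q).sie u w.toAdd.1 (-Q w.toAdd.1) (self_zero hu) (hY _ w.toAdd.2),
    sie_mem _ _ ((sing_iff Q).mpr hu) rfl⟩
  map_one' := by
    apply Subtype.ext
    show (HO Q).sie u 0 (-Q 0) (self_zero hu) (hY _ Y.zero_mem) = 1
    rw [← (HO Q).sie_zero u (self_zero hu)]
    exact (HO Q).sie_congr _ _ _ _ rfl rfl (by rw [QuadraticMap.map_zero, neg_zero])
  map_mul' w w' := by
    apply Subtype.ext
    show (HO Q).sie u (w.toAdd.1 + w'.toAdd.1) (-Q (w.toAdd.1 + w'.toAdd.1)) (self_zero hu)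
      (hY _ (w.toAdd + w'.toAdd).2) =
      (HO Q).sie u w.toAdd.1 _ (self_zero hu) (hY _ w.toAdd.2) * (HO Q).sie u w'.toAdd.1 _ (self_zero hu) (hY _ w'.toAdd.2)
    rw [(HO Q).sie_mul]
    refine (HO Q).sie_congr _ _ _ _ rfl rfl ?_
    exact ((PO Q).add (w := w.toAdd.1) (w' := w'.toAdd.1) rfl rfl).symm

theorem sg_apply (u : ι → F) (hu : Q u = 0) (Y : Submodule F (ι → F)) (hY : ∀ w ∈ Y, (HO Q).h u w = 0)
    (w : Multiplicative Y) (v : ι → F) : (sg u hu Y hY w).1 v =
      v + polar Q v u • w.toAdd.1 - (polar Q v w.toAdd.1) • u + (-Q w.toAdd.1 * polar Q v u) • u := by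
  show (HO Q).sie u w.toAdd.1 (-Q w.toAdd.1) (self_zero hu) (hY _ w.toAdd.2) v = _
  rw [(HO Q).sie_apply]
  have h1 : (HO Q).ε⁻¹ = 1 := inv_one
  rw [h1, one_mul]
  rfl

theorem sg_injective (u : ι → F) (hu : Q u = 0) (Y : Submodule F (ι → F)) (hY : ∀ w ∈ Y, (HO Q).h u w = 0)
    {v0 : ι → F} (hv0 : polar Q v0 u = 1) (hY0 : ∀ w ∈ Y, polar Q v0 w = 0) : Function.Injective (sg u hu Y hY) := by
  rw [injective_iff_map_eq_one]
  intro w hw
  have h1 := sg_apply u hu Y hY w v0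
  rw [hw, hv0, hY0 _ w.toAdd.2, zero_smul, sub_zero, one_smul, mul_one] at h1
  have h2 : v0 = v0 + w.toAdd.1 + (-Q w.toAdd.1) • u := h1
  have h3 : w.toAdd.1 + (-Q w.toAdd.1) • u = 0 := by
    rw [add_assoc] at h2
    exact (left_eq_add.1 h2)
  have h4 : polar Q v0 (w.toAdd.1 + (-Q w.toAdd.1) • u) = -Q w.toAdd.1 := by
    rw [polar_add_right, polar_smul_right, hv0, hY0 _ w.toAdd.2, smul_eq_mul, mul_one, zero_add]
  rw [h3, polar_zero_right] at h4
  rw [← h4, zero_smul, add_zero] at h3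
  exact Subtype.ext h3

/-- commuting with a nontrivial Siegel element: fix `u` -/
theorem fix_of_comm (hG : Good Q) (hpr : p ≠ r) (hd : ¬ p ∣ Nat.card F ^ 2 - 1) (u : ι → F) (hu : Q u = 0)
    (Y : Submodule F (ι → F)) (hY : ∀ w ∈ Y, (HO Q).h u w = 0) {v0 : ι → F} (hv0 : polar Q v0 u = 1)
    (hY0 : ∀ w ∈ Y, polar Q v0 w = 0) {w : Multiplicative Y} (hw : w ≠ 1) {y : E Q} (hy : PElt p y)
    (hwy : sg u hu Y hY w * y = y * sg u hu Y hY w) : y.1 u = u := by
  set g := sg u hu Y hY w with hg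
  have happ := sg_apply u hu Y hY w
  have hw0 : w.toAdd.1 ≠ 0 := fun h => hw (Subtype.ext h)
  let U : Submodule F (ι → F) := LinearMap.range (g.1.toLinearMap - LinearMap.id)
  have hU : ∀ v, v ∈ U ↔ ∃ x, g.1 x - x = v := fun v => Iff.rfl
  have hUle : U ≤ Submodule.span F {u, w.toAdd.1} := by
    rintro _ ⟨x, rfl⟩
    show g.1 x - x ∈ _
    rw [happ]
    have h4 : x + polar Q x u • w.toAdd.1 - polar Q x w.toAdd.1 • u + (-Q w.toAdd.1 * polar Q x u) • u - x =
      polar Q x u • w.toAdd.1 + (-Q w.toAdd.1 * polar Q x u - polar Q x w.toAdd.1) • u := by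
      module
    rw [h4]
    exact Submodule.add_mem _ (Submodule.smul_mem _ _ (Submodule.subset_span (by simp)))
      (Submodule.smul_mem _ _ (Submodule.subset_span (by simp)))
  have hUrk : finrank F U ≤ 2 := (Submodule.finrank_mono hUle).trans (finrank_pair_le _ _)
  have hyp : PElt p y.1 := hy.map (E Q).subtype
  have hcomm : g.1 * y.1 = y.1 * g.1 := congrArg Subtype.val hwy
  refine fix_of_small hp.out (not_dvd_card F hpr) hd hyp U hUrk ?_ u ?_
  · rintro _ ⟨x, rfl⟩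
    refine (hU _).2 ⟨y.1 x, ?_⟩
    show g.1 (y.1 x) - y.1 x = y.1 (g.1 x - x)
    have h1 : g.1 (y.1 x) = y.1 (g.1 x) := by
      have h2 : (g.1 * y.1) x = (y.1 * g.1) x := by rw [hcomm]
      exact h2
    rw [map_sub, h1]
  · obtain ⟨x0, hx0⟩ := hG.nondeg.exists_polar_ne hw0
    rw [polar_comm] at hx0
    have h1 : g.1 (x0 - polar Q x0 u • v0) - (x0 - polar Q x0 u • v0) = (-polar Q x0 w.toAdd.1) • u := by
      rw [happ]
      have h2 : polar Q (x0 - polar Q x0 u • v0) u = 0 := by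
        rw [polar_sub_left, polar_smul_left, hv0, smul_eq_mul, mul_one, sub_self]
      have h3 : polar Q (x0 - polar Q x0 u • v0) w.toAdd.1 = polar Q x0 w.toAdd.1 := by
        rw [polar_sub_left, polar_smul_left, hY0 _ w.toAdd.2, smul_zero, sub_zero]
      rw [h2, h3]
      module
    have h2 : (-polar Q x0 w.toAdd.1) • u ∈ U := (hU _).2 ⟨_, h1⟩
    have h3 := U.smul_mem (-polar Q x0 w.toAdd.1)⁻¹ h2
    rwa [smul_smul, inv_mul_cancel₀ (neg_ne_zero.2 hx0), one_smul] at h3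

/-- **The fixed space has dimension at least four.** -/
theorem fix_all (hG : Good Q) (hpr : p ≠ r) (hd : ¬ p ∣ Nat.card F ^ 2 - 1) (hTI : IsTI p (E Q)) {a : E Q}
    (ha1 : a ≠ 1) (hap : a ^ p = 1) (h4 : 4 ≤ finrank F (fixS a.1)) {u : ι → F} (hu0 : u ≠ 0) (hu : Q u = 0)
    (hau : a.1 u = u) : (∀ b : E Q, PElt p b → a * b = b * a → b.1 u = u) ∧
      ∃ g ∈ sieGrp (HO Q) (E Q) u (self_zero hu), g ≠ 1 := by
  have := finite_gl (F := F) (ι := ι)
  obtain ⟨v1, hav1, hv1⟩ := fix_nondeg hG hpr a.2 (congrArg Subtype.val hap) hu0 hau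
  set v0 := (polar Q u v1)⁻¹ • v1 with hv0d
  have hv0 : polar Q v0 u = 1 := by
    rw [hv0d, polar_smul_left, polar_comm Q v1 u, smul_eq_mul, inv_mul_cancel₀ hv1]
  set Y := par Q a.1 u v0 with hYd
  have hYu : ∀ w ∈ Y, (HO Q).h u w = 0 := fun w hw => (mem_par.1 hw).2.1
  have hY0 : ∀ w ∈ Y, polar Q v0 w = 0 := fun w hw => (mem_par.1 hw).2.2
  have hYrk : 2 ≤ finrank F Y := finrank_par h4
  have hinj := sg_injective u hu Y hYu hv0 hY0
  have hYc : Nat.card F ^ 2 ≤ Nat.card Y := by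
    rw [Module.natCard_eq_pow_finrank (K := F) (V := Y)]
    exact Nat.pow_le_pow_right Nat.card_pos hYrk
  have hrF : r ≤ Nat.card F := by
    obtain ⟨n, -, hn⟩ := FiniteField.card F r
    rw [Nat.card_eq_fintype_card, hn]
    exact Nat.le_self_pow n.ne_zero r
  constructor
  · intro b hb hab
    let C : Subgroup (E Q) :=
      { carrier := {y | y.1 u = u}
        one_mem' := rfl
        mul_mem' := fun {x y} hx hy => by
          show x.1 (y.1 u) = u
          rw [show y.1 u = u from hy]; exact hx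
        inv_mem' := fun {x} hx => by
          show x.1⁻¹ u = u
          have h1 : x.1 u = u := hx
          conv_lhs => rw [← h1]
          exact x.1.symm_apply_apply u }
    have hbC : b ∈ C := by
      refine core (r := r) hpr hTI (V := (sg u hu Y hYu).range) ⟨⟨⟨?_⟩⟩, ?_⟩ ?_ ?_ (c := a) ?_ (pElt_of_pow hap) ha1 hb hab
      · rintro ⟨_, x, rfl⟩ ⟨_, y, rfl⟩
        apply Subtype.ext
        show sg u hu Y hYu x * sg u hu Y hYu y = sg u hu Y hYu y * sg u hu Y hYu x
        rw [← map_mul, mul_comm, map_mul]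
      · rintro _ ⟨x, rfl⟩
        rw [← map_pow]
        have h1 : x ^ r = 1 := by
          apply Subtype.ext
          show r • x.toAdd.1 = 0
          rw [← Nat.cast_smul_eq_nsmul F, CharP.cast_eq_zero, zero_smul]
        rw [h1, map_one]
      · have h1 : Nat.card ↥(sg u hu Y hYu).range = Nat.card Y :=
          (Nat.card_congr (MonoidHom.ofInjective hinj).toEquiv).symm
        rw [h1]
        exact (Nat.pow_le_pow_left hrF 2).trans hYc
      · rintro _ ⟨w, rfl⟩ hw1 y hy hwy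
        have hw : w ≠ 1 := by
          rintro rfl
          exact hw1 (map_one _)
        exact fix_of_comm hG hpr hd u hu Y hYu hv0 hY0 hw hy hwy
      · rintro _ ⟨w, rfl⟩
        apply Subtype.ext
        show a.1 * (HO Q).sie u w.toAdd.1 (-Q w.toAdd.1) (self_zero hu) (hYu _ w.toAdd.2) =
          (HO Q).sie u w.toAdd.1 (-Q w.toAdd.1) (self_zero hu) (hYu _ w.toAdd.2) * a.1
        rw [← mul_inv_eq_iff_eq_mul, (HO Q).conj_sie (e_iso _ a.2)]
        exact (HO Q).sie_congr _ _ _ _ hau (mem_par.1 w.toAdd.2).1 rfl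
    exact hbC
  · obtain ⟨w, hw, hw0⟩ := Submodule.exists_mem_ne_zero_of_ne_bot (p := Y) (by
      rintro h
      rw [h, finrank_bot] at hYrk
      omega)
    exact exists_sieGrp hu (self_zero hu) hw0 (hYu w hw) hv0 (hY0 w hw)

theorem mem_fixS_of_comm {a b : E Q} (hab : a * b = b * a) {w : ι → F} (hw : w ∈ fixS a.1) : b.1 w ∈ fixS a.1 := by
  rw [mem_fixS] at hw ⊢
  have h1 : a.1 (b.1 w) = b.1 (a.1 w) := by
    have h2 : (a.1 * b.1) w = (b.1 * a.1) w := by rw [show a.1 * b.1 = b.1 * a.1 from congrArg Subtype.val hab]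
    exact h2
  rw [h1, hw]

/-- on a fixed space of dimension three another isometry of odd order fixes a vector -/
theorem exists_fix_three (hG : Good Q) (hpr : p ≠ r) (hp2 : p ≠ 2) {a b : E Q} (hap : a ^ p = 1) (hbp : b ^ p = 1)
    (hab : a * b = b * a) (h3 : finrank F (fixS a.1) = 3) : ∃ x ∈ fixS a.1, x ≠ 0 ∧ b.1 x = x := by
  have bs := Module.finBasisOfFinrankEq F (fixS a.1) h3
  have hWi : ∀ w ∈ fixS a.1, (b⁻¹).1 w ∈ fixS a.1 := fun w hw =>
    mem_fixS_of_comm (b := b⁻¹) ((show Commute a b from hab).inv_right.eq) hw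
  let M : Matrix (Fin 3) (Fin 3) F := fun i j =>
    polar Q (b.1 (bs i)) (bs j) - polar Q (bs i : ι → F) (b.1 (bs j))
  have hdiag : ∀ i, M i i = 0 := fun i => by
    show polar Q _ _ - polar Q _ _ = 0
    rw [polar_comm Q (b.1 _) _, sub_self]
  have hskew : ∀ i j, M j i = -M i j := fun i j => by
    show polar Q _ _ - polar Q _ _ = -(polar Q _ _ - polar Q _ _)
    rw [polar_comm Q (b.1 (bs j)) _, polar_comm Q (bs j : ι → F) _]
    ring
  have hdet : M.det = 0 := by
    rw [Matrix.det_fin_three, hdiag, hdiag, hdiag, hskew 0 1, hskew 0 2, hskew 1 2]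
    ring
  obtain ⟨c, hc0, hc⟩ := Matrix.exists_vecMul_eq_zero_iff.2 hdet
  set x : ↥(fixS a.1) := ∑ i, c i • bs i with hx
  have hx0 : (x : ι → F) ≠ 0 := by
    intro h
    have h1 : x = 0 := Subtype.ext h
    rw [hx] at h1
    apply hc0
    funext i
    exact Fintype.linearIndependent_iff.1 bs.linearIndependent c h1 i
  have hxe : (x : ι → F) = ∑ i, c i • (bs i : ι → F) := by
    rw [hx]
    push_cast
    rfl
  let l : ↥(fixS a.1) →ₗ[F] F := (Q.polarBilin (b.1 x)).comp (fixS a.1).subtype -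
    ((Q.polarBilin (x : ι → F)).comp b.1.toLinearMap).comp (fixS a.1).subtype
  have hl : ∀ y : ↥(fixS a.1), l y = polar Q (b.1 x) y - polar Q (x : ι → F) (b.1 y) := fun y => rfl
  have hl0 : l = 0 := by
    refine bs.ext fun j => ?_
    rw [hl, LinearMap.zero_apply, hxe, map_sum]
    have h1 := congrFun hc j
    rw [Matrix.vecMul, Pi.zero_apply] at h1
    rw [← h1]
    have h2 : ∀ (s : Finset (Fin 3)), polar Q (∑ i ∈ s, b.1 (c i • (bs i : ι → F))) (bs j) -
        polar Q (∑ i ∈ s, c i • (bs i : ι → F)) (b.1 (bs j)) = ∑ i ∈ s, c i * M i j := by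
      intro s
      induction s using Finset.induction_on with
      | empty => rw [Finset.sum_empty, Finset.sum_empty, Finset.sum_empty, polar_zero_left, polar_zero_left, sub_self]
      | insert i s hi ih =>
        rw [Finset.sum_insert hi, Finset.sum_insert hi, Finset.sum_insert hi, polar_add_left, polar_add_left, ← ih,
          map_smul, polar_smul_left, polar_smul_left, smul_eq_mul, smul_eq_mul]
        show _ = c i * (polar Q _ _ - polar Q _ _) + _
        ring
    exact h2 Finset.univ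
  have hbx : b.1 (b.1 x) - x = 0 := by
    by_contra hz
    have hzm : b.1 (b.1 x) - x ∈ fixS a.1 :=
      (fixS a.1).sub_mem (mem_fixS_of_comm hab (mem_fixS_of_comm hab x.2)) x.2
    obtain ⟨w', haw', hw'⟩ := fix_nondeg hG hpr a.2 (congrArg Subtype.val hap) hz (mem_fixS.1 hzm)
    apply hw'
    have h1 := hl ⟨(b⁻¹).1 w', hWi w' (mem_fixS.2 haw')⟩
    rw [hl0, LinearMap.zero_apply] at h1
    have h2 : b.1 ((b⁻¹).1 w') = w' := b.1.apply_symm_apply w'
    rw [h2] at h1
    have h3 : polar Q (b.1 x) ((b⁻¹).1 w') = polar Q (b.1 (b.1 x)) w' := by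
      have h4 := e_iso b.1 b.2 (b.1 x) ((b⁻¹).1 w')
      rw [h2] at h4
      exact h4.symm
    rw [polar_sub_left, ← h3]
    exact h1.symm
  have hb2 : b.1 (b.1 x) = x := sub_eq_zero.1 hbx
  refine ⟨x, x.2, hx0, ?_⟩
  obtain ⟨k, hk⟩ := hp.out.odd_of_ne_two hp2
  have h1 : ∀ n : ℕ, (b.1 ^ (2 * n)) (x : ι → F) = x := by
    intro n
    induction n with
    | zero => rfl
    | succ n ih =>
      rw [mul_add, pow_add, mul_one, pow_two]
      show (b.1 ^ (2 * n)) (b.1 (b.1 x)) = x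
      rw [hb2, ih]
  have h2 : (b.1 ^ p) (x : ι → F) = x := by
    rw [show b.1 ^ p = 1 from congrArg Subtype.val hbp]; rfl
  rw [hk, pow_succ'] at h2
  have h3 : b.1 ((b.1 ^ (2 * k)) (x : ι → F)) = x := h2
  rwa [h1] at h3

/-- **`p ∤ q ^ 2 - 1`** -/
theorem noSP_coprime (hG : Good Q) (hV : ∃ u : ι → F, u ≠ 0) (hfilt : HasFilt r G) (hc : ∃ a b : G, a * b ≠ b * a)
    (hp2 : p ≠ 2) (hpr : p ≠ r) (e : Cfsg.POmega F ⇑Q ≃* G) (hTI : IsTI p G)
    (hnc : ∃ P : Subgroup G, IsPGroup p P ∧ ¬ IsCyclic P) (hd : ¬ p ∣ Nat.card F ^ 2 - 1) : NoSP p G := by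
  have hpF := not_dvd_card F hpr
  have := finite_gl (F := F) (ι := ι)
  let π : E Q →* G := e.toMonoidHom.comp (toPOmega hG)
  have hπ : Function.Surjective π := e.surjective.comp (toPOmega_surjective hG)
  obtain ⟨u1, hu1⟩ := hV
  have hTIN : IsTI p (E Q) := isTI_of_ker hTI π (fun z hz => center_of_toPOmega hG (ker_eq hG e hz)) (not_dvd_two hp2)
    (fun z hz => ker_sq hG (ker_eq hG e hz) hu1)
  obtain ⟨A, hA, hcomm, hexp, a, haA, b, hbA, v, ha1, hav, hbv⟩ := exists_data (V := ι → F) hr.out hp2 hpr π hπ hnc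
  have hap := hexp a haA
  have hbp := hexp b hbA
  have hab := hcomm a haA b hbA
  have hvW : v ∈ fixS a.1 := mem_fixS.2 hav
  have h4 : 4 ≤ finrank F (fixS a.1) := by
    by_contra hlt
    rcases Nat.lt_or_ge (finrank F (fixS a.1)) 3 with h5 | h5
    · exact hbv (fix_of_small hp.out hpF hd ((pElt_of_pow hbp).map (E Q).subtype) (fixS a.1) (by omega)
        (fun w hw => mem_fixS_of_comm hab hw) v hvW)
    · obtain ⟨x, hxW, hx0, hbx⟩ := exists_fix_three hG hpr hp2 hap hbp hab (by omega)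
      let f : fixS a.1 →ₗ[F] fixS a.1 := b.1.toLinearMap.restrict (fun w hw => mem_fixS_of_comm hab hw)
      have hfn : ∀ n : ℕ, ∀ w : fixS a.1, (((f ^ n) w : fixS a.1) : ι → F) = (b.1 ^ n) w := by
        intro n
        induction n with
        | zero => intro w; rfl
        | succ n ih =>
          intro w
          have h1 : (f ^ (n + 1)) w = (f ^ n) (f w) := by rw [pow_succ]; rfl
          rw [h1, ih, pow_succ]
          rfl
      obtain ⟨d, h6, h7, h8⟩ := dvd_of_fix hp.out hpF f (by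
          apply LinearMap.ext
          intro w
          apply Subtype.ext
          rw [hfn, show b.1 ^ p = 1 from congrArg Subtype.val hbp]
          rfl) (by
          intro h
          apply hbv
          have h1 : f ⟨v, hvW⟩ = ⟨v, hvW⟩ := by rw [h]; rfl
          exact congrArg Subtype.val h1) (k := 2) (by omega) (x := ⟨x, hxW⟩)
          (fun h => hx0 (congrArg Subtype.val h)) (Subtype.ext hbx)
      apply hd
      refine h8.trans (Nat.pow_sub_one_dvd_pow_sub_one _ ?_)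
      interval_cases d
      · exact one_dvd _
      · exact dvd_rfl
  obtain ⟨u, huW, hu0, hu⟩ := exists_sing_mem (Q := Q) (fixS a.1) (by omega)
  obtain ⟨h5, h6⟩ := fix_all hG hpr hd hTIN ha1 hap h4 hu0 hu (mem_fixS.1 huW)
  exact quick_lift (H := HO Q) e_iso hfilt hc hpr π
    (fun g hg => scalar_of_center hG (center_of_toPOmega hG (ker_eq hG e hg))) (not_dvd_two hp2)
    (fun z hz => ker_sq hG (ker_eq hG e hz) hu1) hA hcomm hexp (self_zero hu) hu0
    (fun x hx => ⟨1, by rw [one_smul]; exact h5 x (pElt_of_pow (hexp x hx)) (hcomm a haA x hx)⟩) h6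

end Gen

end Cfsg.Agent.H666.ClsO
end

-- part: H666/ClsRow
section
/-!
# TI Sylow subgroups of `PSp_{2m}(q)` and `PΩ_n(q)`, odd primes, cross characteristic (helper666)

`noSP_class` : TI and not cyclic: no strongly `p`-embedded subgroups (so a contradiction).
-/

set_option autoImplicit false
set_option linter.unusedSectionVars false

namespace Cfsg.Agent.H666.ClsRow

open Subgroup Cfsg Cfsg.Agent.H666.TI Cfsg.Agent.H818.StrP Cfsg.Agent.KFacts.RgdFilt
open Cfsg.Agent.LieClassical Cfsg.Agent.LieClassical.OrthCore Cfsg.Agent.LieClassical.OrthTrans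
open Cfsg.Agent.LieClassical.OrthSimple Cfsg.Agent.LieClassical.OrthFinite Cfsg.Agent.LieClassical.OrthForms
open Cfsg.Agent.TitsThree.Siegel Cfsg.Agent.TitsThree.SiegelGen Cfsg.Agent.TitsThree.WittFrame
open Cfsg.Agent.TitsThree.KSideO Cfsg.Agent.TitsThree.WBridge
open Cfsg.Agent.OddHalf.LongSL.OrthPhi Cfsg.Agent.OddHalf.LongSL.Orth

variable {p r : ℕ} [hp : Fact p.Prime] [hr : Fact r.Prime] {G : Type*} [Group G] [Finite G] [IsSimpleGroup G]

theorem noSP_psp (hp2 : p ≠ 2) (hpr : p ≠ r) (hc : ∃ a b : G, a * b ≠ b * a) (hG : IsPSpChar r G) (hTI : IsTI p G)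
    (hnc : ∃ P : Subgroup G, IsPGroup p P ∧ ¬ IsCyclic P) : NoSP p G := by
  have hfilt : HasFilt r G := KFacts.RgdLieCharP.hasFilt_of_lie (Or.inr (Or.inl hG))
  obtain ⟨F, _, _, _, m, hm, hm2, ⟨e⟩⟩ := hG
  by_cases hd : p ∣ Nat.card F ^ 2 - 1
  · rcases Nat.lt_or_ge m 3 with h | h
    · exfalso
      have h3 := hm2 (by omega)
      refine ClsSp.not_ti hm ?_ hp2 e.symm hTI hd
      by_contra hcon
      have h4 : Nat.card F = 3 := by rw [Nat.card_eq_fintype_card]; omega
      rw [h4] at hd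
      have h5 : p ∣ 2 ^ 3 := by simpa using hd
      exact hp2 ((Nat.prime_dvd_prime_iff_eq hp.out Nat.prime_two).mp (hp.out.dvd_of_dvd_pow h5))
    · exact ClsSp.noSP_three h hfilt hc hpr e.symm hd
  · exact ClsSp.noSP_coprime (by omega) hfilt hc hp2 hpr e.symm hTI hnc hd

section Orth

variable {ι : Type} [Fintype ι] [DecidableEq ι] {F : Type} [Field F] [Fintype F] {Q : QuadraticForm F (ι → F)}

theorem noSP_frame [CharP F r] (hG : Good Q) {m : ℕ} (W : WFrame (PO Q) m) (hm : 3 ≤ m) (hfilt : HasFilt r G)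
    (hc : ∃ a b : G, a * b ≠ b * a) (hp2 : p ≠ 2) (hpr : p ≠ r) (e : Cfsg.POmega F ⇑Q ≃* G) (hTI : IsTI p G)
    (hnc : ∃ P : Subgroup G, IsPGroup p P ∧ ¬ IsCyclic P) : NoSP p G := by
  by_cases hd : p ∣ Nat.card F ^ 2 - 1
  · exact ClsO.noSP_dvd hG W hm hfilt hc hp2 hpr e hd
  · exact ClsO.noSP_coprime hG ⟨(toFrame W).b (⟨0, by omega⟩, true), Cfsg.Agent.Nodes.WittRGD.b_ne_zero _⟩ hfilt hc hp2 hpr
      e hTI hnc hd

theorem noSP_frame' [CharP F r] {f : (ι → F) → F} (hf : ⇑Q = f) (hG : Good Q) {m : ℕ} (W : WFrame (PO Q) m) (hm : 3 ≤ m)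
    (hfilt : HasFilt r G) (hc : ∃ a b : G, a * b ≠ b * a) (hp2 : p ≠ 2) (hpr : p ≠ r) (e : G ≃* Cfsg.POmega F f)
    (hTI : IsTI p G) (hnc : ∃ P : Subgroup G, IsPGroup p P ∧ ¬ IsCyclic P) : NoSP p G := by
  subst hf
  exact noSP_frame hG W hm hfilt hc hp2 hpr e.symm hTI hnc

end Orth

theorem noSP_odd (hp2 : p ≠ 2) (hpr : p ≠ r) (hc : ∃ a b : G, a * b ≠ b * a) (hG : IsPOmegaOddChar r G)
    (hTI : IsTI p G) (hnc : ∃ P : Subgroup G, IsPGroup p P ∧ ¬ IsCyclic P) : NoSP p G := by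
  have hfilt : HasFilt r G := KFacts.RgdLieCharP.hasFilt_of_lie (Or.inr (Or.inr (Or.inr (Or.inl hG))))
  obtain ⟨F, _, _, _, m, hm, ho, ⟨e⟩⟩ := hG
  have h2 : (2 : F) ≠ 0 := Cfsg.Agent.OddHalf.LongSL.two_ne_of_odd ho
  have hG : Good (oddForm m F) := by
    apply good_of_finite (nondeg_oddForm m F h2)
    rw [Module.finrank_fintype_fun_eq_card, Fintype.card_sum, Fintype.card_sum, Fintype.card_fin,
      Fintype.card_unit]
    omega
  exact noSP_frame' (coe_oddForm m F) hG (wodd m F) hm hfilt hc hp2 hpr e hTI hnc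

theorem noSP_plus (hp2 : p ≠ 2) (hpr : p ≠ r) (hc : ∃ a b : G, a * b ≠ b * a) (hG : IsPOmegaPlusChar r G)
    (hTI : IsTI p G) (hnc : ∃ P : Subgroup G, IsPGroup p P ∧ ¬ IsCyclic P) : NoSP p G := by
  have hfilt : HasFilt r G := KFacts.RgdLieCharP.hasFilt_of_lie (Or.inr (Or.inr (Or.inr (Or.inr (Or.inl hG)))))
  obtain ⟨F, _, _, _, m, hm, ⟨e⟩⟩ := hG
  have hG : Good (plusForm m F) := by
    apply good_of_finite (nondeg_plusForm m F)
    rw [Module.finrank_fintype_fun_eq_card, Fintype.card_sum, Fintype.card_fin]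
    omega
  exact noSP_frame' (coe_plusForm m F) hG (Cfsg.Agent.Nodes.WittInst.wplus m F) (by omega) hfilt hc hp2 hpr e hTI hnc

theorem noSP_minus (hp2 : p ≠ 2) (hpr : p ≠ r) (hc : ∃ a b : G, a * b ≠ b * a) (hG : IsPOmegaMinusChar r G)
    (hTI : IsTI p G) (hnc : ∃ P : Subgroup G, IsPGroup p P ∧ ¬ IsCyclic P) : NoSP p G := by
  have hfilt : HasFilt r G := KFacts.RgdLieCharP.hasFilt_of_lie (Or.inr (Or.inr (Or.inr (Or.inr (Or.inr (Or.inl hG))))))
  obtain ⟨F, _, _, _, m, a, b, hm, hab, ⟨e⟩⟩ := hG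
  have hG : Good (minusForm (m - 1) F a b) := by
    apply good_of_finite (nondeg_minusForm (m - 1) F a b hab)
    rw [Module.finrank_fintype_fun_eq_card, Fintype.card_sum, Fintype.card_sum, Fintype.card_fin,
      Fintype.card_fin]
    omega
  exact noSP_frame' (coe_minusForm (m - 1) F a b) hG (wminus (m - 1) F a b hab) (by omega) hfilt hc hp2 hpr e hTI hnc

/-- **`PSp`, `PΩ`.** -/
theorem noSP_class (hp2 : p ≠ 2) (hpr : p ≠ r) (hc : ∃ a b : G, a * b ≠ b * a)
    (hG : IsPSpChar r G ∨ IsPOmegaOddChar r G ∨ IsPOmegaPlusChar r G ∨ IsPOmegaMinusChar r G)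
    (hTI : IsTI p G) (hnc : ∃ P : Subgroup G, IsPGroup p P ∧ ¬ IsCyclic P) : NoSP p G := by
  rcases hG with h | h | h | h
  · exact noSP_psp hp2 hpr hc h hTI hnc
  · exact noSP_odd hp2 hpr hc h hTI hnc
  · exact noSP_plus hp2 hpr hc h hTI hnc
  · exact noSP_minus hp2 hpr hc h hTI hnc

end Cfsg.Agent.H666.ClsRow
end

private theorem dce_69ef3edc8c6c : _root_.True := by
  try have : _root_.True := by simp only [_root_.Cfsg.Agent.H666.ClsO.par.eq_1]
  try have : _root_.True := by simp only [_root_.Cfsg.Agent.H666.ClsO.fixS.eq_1]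
  exact _root_.True.intro
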