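import Mathlib
import Cfsg.Agent.H666.SporTI_m3
import Cfsg.Agent.S0222
import Cfsg.Agent.FastGrp
import Cfsg.Agent.Prune
set_option linter.all false
prune_inst 0x7f00000000000000000000000000000000000000000000000000000000000000000000000000000000000000000000000000000000000000000000000000000000000000000000000000000000000000003fffffffffffffffffffffffffffbeffbdffffffff
open scoped Cfsg.Agent.FastGrp

/-!
# Simple groups with noncyclic TI Sylow `2`-subgroups (helper666)

`two` : from Bender's theorem S0222.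
-/

set_option autoImplicit false

namespace Cfsg.Agent.H666.Two

open Subgroup Cfsg Cfsg.Agent.H666.TI Cfsg.Agent.H666.Assem

variable {G : Type*} [Group G] [Finite G]

theorem mem_of_normalizer {p : ℕ} [hp : Fact p.Prime] (P : Sylow p G) {x : G} (hx : PElt p x)
    (hxN : x ∈ normalizer ((P : Subgroup G) : Set G)) : x ∈ P := by
  have h1 : IsPGroup p ↥(zpowers x ⊔ (P : Subgroup G)) :=
    (isPGroup_zpowers hx).to_sup_of_normal_right' P.isPGroup' (by rwa [zpowers_le])
  have h2 := P.is_maximal' h1 le_sup_right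
  show x ∈ (P : Subgroup G)
  rw [← h2]
  exact mem_sup_left (mem_zpowers x)

theorem strongly (hTI : IsTI 2 G) (P : Sylow 2 G) (hP1 : (P : Subgroup G) ≠ ⊥)
    (hN : normalizer ((P : Subgroup G) : Set G) ≠ ⊤) : IsStronglyEmbedded (normalizer ((P : Subgroup G) : Set G)) := by
  have h2 : Fact (Nat.Prime 2) := ⟨Nat.prime_two⟩
  refine ⟨hN, ?_, ?_⟩
  · have h1 : 2 ∣ Nat.card (P : Subgroup G) := by
      obtain ⟨k, hk⟩ := IsPGroup.iff_card.1 P.isPGroup'
      have hk0 : k ≠ 0 := by
        rintro rfl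
        rw [pow_zero, Subgroup.card_eq_one] at hk
        exact hP1 hk
      rw [hk]
      exact dvd_pow_self 2 hk0
    exact even_iff_two_dvd.2 (h1.trans (card_dvd_of_le le_normalizer))
  · intro g hg
    by_contra hodd
    rw [Nat.not_odd_iff_even, even_iff_two_dvd] at hodd
    obtain ⟨x, hx⟩ := exists_prime_orderOf_dvd_card' 2 hodd
    have hx2 : orderOf (x : G) = 2 := by rw [Subgroup.orderOf_coe, hx]
    have hxp : PElt 2 (x : G) := pElt_of_orderOf hx2
    have hx1 : (x : G) ≠ 1 := by
      intro h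
      rw [h, orderOf_one] at hx2
      norm_num at hx2
    have h3 : (x : G) ∈ P := mem_of_normalizer P hxp x.2.1
    obtain ⟨y, hy, hyx⟩ := x.2.2
    have hyx' : g * y * g⁻¹ = x := hyx
    have hyp : PElt 2 y := by
      have h4 := hxp.conj g⁻¹
      rw [← hyx'] at h4
      rwa [show g⁻¹ * (g * y * g⁻¹) * g⁻¹⁻¹ = y by group] at h4
    have h5 : y ∈ P := mem_of_normalizer P hyp hy
    apply hg
    refine Sylow.smul_eq_iff_mem_normalizer.1 ?_
    refine hTI.sylow_eq (x := (x : G)) ?_ h3 hx1
    show (x : G) ∈ ((g • P : Sylow 2 G) : Subgroup G)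
    rw [Sylow.coe_subgroup_smul]
    exact ⟨y, h5, hyx'⟩

/-- **`p = 2`.** -/
theorem two [IsSimpleGroup G] (hna : ¬ IsMulCommutative G) (hTI : IsTI 2 G) (P : Sylow 2 G)
    (hP1 : (P : Subgroup G) ≠ ⊥) : Concl 2 G := by
  have h2 : Fact (Nat.Prime 2) := ⟨Nat.prime_two⟩
  have hN : normalizer ((P : Subgroup G) : Set G) ≠ ⊤ := by
    intro h1
    have h2 : (P : Subgroup G).Normal := normalizer_eq_top_iff.1 h1
    rcases h2.eq_bot_or_eq_top with h3 | h3
    · exact hP1 h3
    · apply hna
      have h4 : IsPGroup 2 G := by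
        have : IsPGroup 2 (⊤ : Subgroup G) := h3 ▸ P.isPGroup'
        exact this.of_equiv Subgroup.topEquiv
      have h5 : (center G).Normal := inferInstance
      rcases h5.eq_bot_or_eq_top with h6 | h6
      · exfalso
        have h7 := h4.center_nontrivial
        exact (Subgroup.nontrivial_iff_ne_bot _).1 h7 h6
      · refine ⟨⟨fun a b => ?_⟩⟩
        have h7 : b ∈ center G := by rw [h6]; exact mem_top b
        exact mem_center_iff.1 h7 a
  rcases Cfsg.Agent.S0222.result (Link.exists_ne_comm hna) _ (strongly hTI P hP1 hN) with h | h | h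
  · obtain ⟨F, _, _, hF, h4, he⟩ := h
    obtain ⟨n, -, hn⟩ := FiniteField.card F 2
    refine Or.inl ⟨F, inferInstance, inferInstance, n, ?_, hn, he⟩
    by_contra hcon
    have h1 : (n : ℕ) ≤ 1 := by omega
    have h5 : Fintype.card F ≤ 2 := by
      rw [hn]
      calc 2 ^ (n : ℕ) ≤ 2 ^ 1 := Nat.pow_le_pow_right (by norm_num) h1
        _ = 2 := by norm_num
    omega
  · exact Or.inr (Or.inr (Or.inl ⟨rfl, h⟩))
  · obtain ⟨F, _, _, q, hF, hev, h4, he⟩ := h
    obtain ⟨r, hr, hrF⟩ := exists_charP F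
    obtain ⟨k, -, hk⟩ := FiniteField.card F r
    have hr2 : r = 2 := by
      have h5 : 2 ∣ r ^ (k : ℕ) := by
        rw [← hk, hF]
        exact dvd_pow hev.two_dvd two_ne_zero
      exact ((Nat.prime_dvd_prime_iff_eq Nat.prime_two hr.out).1 (Nat.prime_two.dvd_of_dvd_pow h5)).symm
    subst hr2
    have h5 : q ∣ 2 ^ (k : ℕ) := by
      rw [← hk, hF]
      exact dvd_pow_self q two_ne_zero
    obtain ⟨n, -, hn⟩ := (Nat.dvd_prime_pow Nat.prime_two).1 h5
    subst hn
    refine Or.inr (Or.inl ⟨F, inferInstance, inferInstance, n, ?_, hF, he⟩)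
    by_contra hcon
    have h6 : n = 0 := by omega
    rw [h6] at h4
    norm_num at h4

end Cfsg.Agent.H666.Two
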