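import Cfsg.Agent.H666.TraceZero
set_option linter.all false

/-!
# Lattices over a valuation subring of `ℂ`

* `exists_valuationSubring` : a valuation subring of `ℂ` in which `p` is a nonunit.
* `exists_basis` : a finitely generated submodule (over a valuation subring `B` of `ℂ`) spanning a
  finite-dimensional complex space is the `B`-span of a complex basis.
* `trace_small` : if a `p`-group `P` acts on a lattice of rank `< #P`, then all coordinates of
  `∑ x : P, ρ x m` are nonunits.
-/

set_option autoImplicit false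
set_option linter.style.haveILetI false
set_option linter.unusedSectionVars false

namespace Cfsg.Agent.H666

open Module Submodule

/-- There is a valuation subring of `ℂ` in which the prime `p` is a nonunit. -/
theorem exists_valuationSubring (p : ℕ) [hp : Fact p.Prime] :
    ∃ B : ValuationSubring ℂ, (p : ℂ) ∈ B.nonunits := by
  let A : Subring ℂ := ⊥
  let I : Ideal A := Ideal.span {(p : A)}
  have hI : I ≠ ⊤ := by
    intro h
    rw [Ideal.eq_top_iff_one, Ideal.mem_span_singleton'] at h
    obtain ⟨a, ha⟩ := h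
    obtain ⟨n, hn⟩ := Subring.mem_bot.mp a.2
    have h1 : (n : ℂ) * (p : ℂ) = 1 := by
      rw [hn]
      simpa using congrArg Subtype.val ha
    have h2 : n * (p : ℤ) = 1 := by exact_mod_cast h1
    have h3 : (p : ℤ) ∣ 1 := ⟨n, by rw [← h2]; ring⟩
    have h4 : p ∣ 1 := by exact_mod_cast h3
    exact hp.out.one_lt.ne' (Nat.dvd_one.mp h4)
  obtain ⟨B, -, hB⟩ := Ideal.image_subset_nonunits_valuationSubring I hI
  refine ⟨B, hB ⟨(p : A), Ideal.subset_span rfl, ?_⟩⟩
  simp

variable {V : Type*} [AddCommGroup V] [Module ℂ V]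

/-- Over a valuation subring, a minimal generating set is linearly independent. -/
theorem exists_minimal_span (B : ValuationSubring ℂ) (S : Finset V) :
    ∃ T : Finset V, T ⊆ S ∧ span B (T : Set V) = span B (S : Set V) ∧
      LinearIndependent ℂ (fun t : T => (t : V)) := by
  classical
  have hex : ∃ n : ℕ, ∃ T : Finset V, T ⊆ S ∧ span B (T : Set V) = span B (S : Set V) ∧
      T.card = n := ⟨S.card, S, subset_rfl, rfl, rfl⟩
  obtain ⟨T, hTS, hspan, hcard⟩ := Nat.find_spec hex
  refine ⟨T, hTS, hspan, ?_⟩
  by_contra hli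
  rw [Fintype.not_linearIndependent_iff] at hli
  obtain ⟨g, hg0, i₁, hi₁⟩ := hli
  obtain ⟨i₀, -, hmax⟩ := Finset.exists_max_image Finset.univ (fun i => B.valuation (g i))
    ⟨i₁, Finset.mem_univ _⟩
  have hgi₀ : g i₀ ≠ 0 := by
    intro h0
    have := hmax i₁ (Finset.mem_univ _)
    rw [h0, map_zero, le_zero_iff, map_eq_zero] at this
    exact hi₁ this
  have hmem : ∀ i, g i / g i₀ ∈ B := by
    intro i
    rw [← B.valuation_le_one_iff, map_div₀]
    exact div_le_one_of_le₀ (hmax i (Finset.mem_univ _)) zero_le
  have hin : (i₀ : V) ∈ span B ((T.erase i₀.1 : Finset V) : Set V) := by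
    have h1 : (i₀ : V) = ∑ i ∈ Finset.univ.erase i₀, (-(g i / g i₀)) • (i : V) := by
      have h2 : ∑ i, g i • (i : V) = g i₀ • (i₀ : V) + ∑ i ∈ Finset.univ.erase i₀, g i • (i : V) :=
        (Finset.add_sum_erase _ _ (Finset.mem_univ _)).symm
      rw [hg0] at h2
      have h3 : (g i₀)⁻¹ • (g i₀ • (i₀ : V) + ∑ i ∈ Finset.univ.erase i₀, g i • (i : V)) = 0 := by
        rw [← h2, smul_zero]
      rw [smul_add, smul_smul, inv_mul_cancel₀ hgi₀, one_smul, add_eq_zero_iff_eq_neg] at h3
      rw [h3, Finset.smul_sum, ← Finset.sum_neg_distrib]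
      refine Finset.sum_congr rfl fun i _ => ?_
      rw [smul_smul, neg_smul, div_eq_inv_mul]
    have h4 : (∑ i ∈ Finset.univ.erase i₀, (-(g i / g i₀)) • (i : V)) ∈
        span B ((T.erase i₀.1 : Finset V) : Set V) := by
      refine Submodule.sum_mem _ fun i hi => ?_
      have hne : (i : V) ≠ i₀ := fun h => (Finset.mem_erase.mp hi).1 (Subtype.ext h)
      have : (-(g i / g i₀)) • (i : V) = (⟨-(g i / g i₀), neg_mem (hmem i)⟩ : B) • (i : V) := rfl
      rw [this]
      have hmemT : (i : V) ∈ ((T.erase i₀.1 : Finset V) : Set V) := by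
        rw [Finset.mem_coe, Finset.mem_erase]
        exact ⟨hne, i.2⟩
      exact Submodule.smul_mem _ _ (subset_span hmemT)
    rw [← h1] at h4
    exact h4
  have hlt : (T.erase i₀.1).card < Nat.find hex := by
    rw [← hcard]
    exact Finset.card_erase_lt_of_mem i₀.2
  refine Nat.find_min hex hlt ⟨T.erase i₀.1, (Finset.erase_subset _ _).trans hTS, ?_, rfl⟩
  rw [← hspan]
  apply le_antisymm
  · exact span_mono (by exact_mod_cast Finset.erase_subset _ _)
  · rw [span_le]
    intro t ht
    by_cases h : t = i₀.1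
    · rw [h]; exact hin
    · exact subset_span (by simpa [h] using ht)

/-- A finite spanning set of a complex space: its `B`-span has a `B`-basis which is a complex
basis. -/
theorem exists_basis (B : ValuationSubring ℂ) (S : Finset V) (hS : span ℂ (S : Set V) = ⊤) :
    ∃ (T : Finset V) (b : Basis T ℂ V), span B (Set.range b) = span B (S : Set V) := by
  obtain ⟨T, hTS, hspan, hli⟩ := exists_minimal_span B S
  have hle : span ℂ (S : Set V) ≤ span ℂ (T : Set V) := by
    rw [span_le]
    intro s hs
    have h1 : s ∈ span B (T : Set V) := by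
      rw [hspan]; exact subset_span hs
    exact span_le_restrictScalars B ℂ (T : Set V) h1
  have htop : ⊤ ≤ span ℂ (Set.range fun t : T => (t : V)) := by
    rw [← hS]
    simpa using hle
  refine ⟨T, Basis.mk hli htop, ?_⟩
  rw [← hspan]
  congr 1
  rw [Basis.coe_mk]
  ext x; simp

/-- If a `p`-group acts on a `B`-lattice of rank less than its order, then traces have coordinates
in the maximal ideal. -/
theorem trace_small (B : ValuationSubring ℂ) (p : ℕ) [Fact p.Prime] (hpB : (p : ℂ) ∈ B.nonunits)
    {P : Type*} [Group P] [Fintype P] (hP : IsPGroup p P) {ι : Type*} [Fintype ι] [DecidableEq ι]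
    (b : Basis ι ℂ V) (ρ : Representation ℂ P V)
    (hM : ∀ g : P, ∀ m ∈ span B (Set.range b), ρ g m ∈ span B (Set.range b))
    (hcard : Fintype.card ι < Nat.card P) :
    ∀ m ∈ span B (Set.range b), ∀ i, B.valuation (b.repr (∑ x : P, ρ x m) i) < 1 := by
  classical
  set M : Submodule B V := span B (Set.range b) with hMdef
  let bM : Basis ι B M := b.restrictScalars B
  let k := IsLocalRing.ResidueField B
  haveI : CharP k p := by
    have hp0 : (p : k) = 0 := by
      have : (p : k) = IsLocalRing.residue B (p : B) := by simp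
      rw [this, IsLocalRing.residue_eq_zero_iff, ValuationSubring.valuation_lt_one_iff]
      exact (B.mem_nonunits_iff).mp (by simpa using hpB)
    exact (CharP.charP_iff_prime_eq_zero (Fact.out : p.Prime)).mpr hp0
  let ρM : P →* Module.End B M :=
    { toFun := fun g => ((ρ g).restrictScalars B).restrict (hM g)
      map_one' := by ext m; simp
      map_mul' := fun g h => by
        ext m
        show ρ (g * h) m.1 = ρ g (ρ h m.1)
        simp [map_mul] }
  have ρM_apply : ∀ g : P, ∀ m : M, ((ρM g m : M) : V) = ρ g m := fun g m => rfl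
  let toMat : Module.End B M →* Matrix ι ι B := (LinearMap.toMatrixAlgEquiv bM : _ ≃ₐ[B] _)
  let red : Matrix ι ι B →* Matrix ι ι k := (RingHom.mapMatrix (IsLocalRing.residue B)).toMonoidHom
  let toEnd : Matrix ι ι k →* Module.End k (ι → k) :=
    (Matrix.toLinAlgEquiv' : Matrix ι ι k ≃ₐ[k] _)
  let σ : Representation k P (ι → k) := toEnd.comp (red.comp (toMat.comp ρM))
  have hσ : ∀ (g : P) (w : ι → k), σ g w = (red (toMat (ρM g))).mulVec w := fun g w => rfl
  have hsum := sum_apply_eq_zero hP σ (by simpa using hcard)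
  -- reduction of coordinates
  have key : ∀ m : M, ∀ g : P, (fun i => IsLocalRing.residue B (bM.repr (ρM g m) i)) =
      σ g (fun i => IsLocalRing.residue B (bM.repr m i)) := by
    intro m g
    funext i
    rw [hσ]
    have h1 : (bM.repr (ρM g m) : ι → B) = (toMat (ρM g)).mulVec (bM.repr m) := by
      exact (LinearMap.toMatrix_mulVec_repr bM bM (ρM g) m).symm
    have h2 : bM.repr (ρM g m) i = ((toMat (ρM g)).mulVec (bM.repr m)) i := congrFun h1 i
    rw [h2]
    simp only [Matrix.mulVec, dotProduct, map_sum, map_mul]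
    rfl
  intro m hm i
  let m' : M := ⟨m, hm⟩
  have h3 : (b.repr (∑ x : P, ρ x m) i) = ((bM.repr (∑ x : P, ρM x m') i : B) : ℂ) := by
    have := Basis.restrictScalars_repr_apply B b (∑ x : P, ρM x m') i
    rw [show ((bM.repr (∑ x : P, ρM x m') i : B) : ℂ) =
      algebraMap B ℂ ((b.restrictScalars B).repr (∑ x : P, ρM x m') i) from rfl, this]
    congr 2
    rw [Submodule.coe_sum]
    rfl
  rw [h3, ← ValuationSubring.valuation_lt_one_iff, ← IsLocalRing.residue_eq_zero_iff]
  have h4 : (fun i => IsLocalRing.residue B (bM.repr (∑ x : P, ρM x m') i)) =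
      ∑ x : P, σ x (fun i => IsLocalRing.residue B (bM.repr m' i)) := by
    funext j
    rw [Finset.sum_apply, map_sum, Finsupp.finsetSum_apply, map_sum]
    exact Finset.sum_congr rfl fun x _ => congrFun (key m' x) j
  exact congrFun (h4.trans (hsum _)) i

end Cfsg.Agent.H666
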