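import Mathlib
set_option linter.all false

/-!
# The norm element of a `p`-group kills small modules in characteristic `p`

`sum_apply_eq_zero` : if a finite `p`-group `P` acts linearly on a vector space `W` over a field of
characteristic `p`, and `dim W < #P`, then `∑ x : P, ρ x = 0`.
-/

set_option autoImplicit false
set_option linter.style.haveILetI false
set_option linter.unusedSectionVars false

namespace Cfsg.Agent.H666

section Fixed

variable {k : Type*} [Field k] {p : ℕ} [Fact p.Prime] [CharP k p] {P : Type*} [Group P] [Finite P]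
  {W : Type*} [AddCommGroup W] [Module k W]

/-- A `p`-group acting on a vector space in characteristic `p` has a nonzero fixed vector in each
nonzero invariant subspace. -/
theorem exists_fixed_ne_zero (hP : IsPGroup p P) (ρ : Representation k P W) (U : Submodule k W)
    (hU : ∀ g : P, ∀ u ∈ U, ρ g u ∈ U) (hne : U ≠ ⊥) :
    ∃ u ∈ U, u ≠ 0 ∧ ∀ g : P, ρ g u = u := by
  classical
  obtain ⟨u, huU, hu0⟩ := U.ne_bot_iff.mp hne
  haveI : Fintype P := Fintype.ofFinite P
  -- the additive subgroup generated by the orbit
  let S : AddSubgroup W := AddSubgroup.closure (Set.range fun g : P => ρ g u)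
  have hSU : S ≤ U.toAddSubgroup := by
    rw [AddSubgroup.closure_le]
    rintro _ ⟨g, rfl⟩
    exact hU g u huU
  have huS : u ∈ S := AddSubgroup.subset_closure ⟨1, by simp⟩
  have hSstab : ∀ g : P, ∀ s ∈ S, ρ g s ∈ S := by
    intro g s hs
    induction hs using AddSubgroup.closure_induction with
    | mem x hx =>
      obtain ⟨h, rfl⟩ := hx
      refine AddSubgroup.subset_closure ⟨g * h, ?_⟩
      simp [map_mul]
    | zero => simp [S.zero_mem]
    | add x y _ _ hx hy => rw [map_add]; exact S.add_mem hx hy
    | neg x _ hx => rw [map_neg]; exact S.neg_mem hx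
  -- finiteness of S
  have hpS : ∀ s ∈ S, p • s = 0 := by
    intro s _
    rw [← Nat.cast_smul_eq_nsmul k, CharP.cast_eq_zero, zero_smul]
  haveI : AddGroup.FG S := by
    rw [AddGroup.fg_iff_addSubgroup_fg]
    exact ⟨(Set.finite_range fun g : P => ρ g u).toFinset, by simp [S]⟩
  letI : Module (ZMod p) S := AddCommGroup.zmodModule (n := p) (by
    intro s; ext; simpa using hpS s.1 s.2)
  haveI : Module.Finite ℤ S := Module.Finite.iff_addGroup_fg.mpr inferInstance
  haveI hfin : Module.Finite (ZMod p) S := Module.Finite.of_restrictScalars_finite ℤ (ZMod p) S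
  haveI : Finite S := @Module.finite_of_finite (ZMod p) S _ _ _ _ hfin
  letI : MulAction P S :=
    { smul := fun g s => ⟨ρ g s.1, hSstab g s.1 s.2⟩
      one_smul := fun s => Subtype.ext (by
        show ρ 1 s.1 = s.1
        simp)
      mul_smul := fun g h s => Subtype.ext (by
        show ρ (g * h) s.1 = ρ g (ρ h s.1)
        simp [map_mul]) }
  have hdvd : p ∣ Nat.card S := by
    have hord : addOrderOf (⟨u, huS⟩ : S) = p :=
      addOrderOf_eq_prime (Subtype.ext (by simpa using hpS u huS))
        (fun h => hu0 (by simpa using congrArg Subtype.val h))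
    rw [← hord]
    exact addOrderOf_dvd_natCard _
  have h0 : (0 : S) ∈ MulAction.fixedPoints P S := by
    intro g
    apply Subtype.ext
    show ρ g 0 = 0
    simp
  obtain ⟨b, hb, hb0⟩ := hP.exists_fixed_point_of_prime_dvd_card_of_fixed_point S hdvd h0
  refine ⟨b.1, hSU b.2, fun h => hb0 (Subtype.ext h.symm), fun g => ?_⟩
  exact congrArg Subtype.val (hb g)

/-- If `dim W < #P`, then the norm element `∑ x : P, x` acts as zero on `W`. -/
theorem sum_apply_eq_zero [Fintype P] (hP : IsPGroup p P) (ρ : Representation k P W)
    [FiniteDimensional k W] (hdim : Module.finrank k W < Nat.card P) (w : W) :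
    ∑ x : P, ρ x w = 0 := by
  classical
  -- left translation on functions
  let lt : Representation k P (P → k) :=
    { toFun := fun g =>
        { toFun := fun a x => a (g⁻¹ * x)
          map_add' := fun a b => rfl
          map_smul' := fun c a => rfl }
      map_one' := by ext a x; simp
      map_mul' := fun g h => by
        ext a x
        simp [mul_assoc] }
  have lt_apply : ∀ (g : P) (a : P → k) (x : P), lt g a x = a (g⁻¹ * x) := fun g a x => rfl
  let f : (P → k) →ₗ[k] W :=
    { toFun := fun a => ∑ x : P, a x • ρ x w
      map_add' := fun a b => by simp [add_smul, Finset.sum_add_distrib]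
      map_smul' := fun c a => by simp [mul_smul, Finset.smul_sum] }
  have f_apply : ∀ a : P → k, f a = ∑ x : P, a x • ρ x w := fun a => rfl
  have hker : LinearMap.ker f ≠ ⊥ := by
    intro h
    have hinj : Function.Injective f := LinearMap.ker_eq_bot.mp h
    have := LinearMap.finrank_le_finrank_of_injective hinj
    rw [Module.finrank_fintype_fun_eq_card, ← Nat.card_eq_fintype_card] at this
    omega
  have hstab : ∀ g : P, ∀ a ∈ LinearMap.ker f, lt g a ∈ LinearMap.ker f := by
    intro g a ha
    rw [LinearMap.mem_ker] at ha ⊢
    have : f (lt g a) = ρ g (f a) := by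
      rw [f_apply, f_apply, map_sum, ← Equiv.sum_comp (Equiv.mulLeft g)]
      refine Finset.sum_congr rfl fun x _ => ?_
      simp [lt_apply, map_mul]
    rw [this, ha, map_zero]
  obtain ⟨a, hak, ha0, hfix⟩ := exists_fixed_ne_zero hP lt (LinearMap.ker f) hstab hker
  have hconst : ∀ x : P, a x = a 1 := by
    intro x
    have := congrFun (hfix x) x
    rw [lt_apply] at this
    simpa using this.symm
  have ha1 : a 1 ≠ 0 := by
    intro h
    apply ha0
    funext x
    rw [hconst x, h]; rfl
  rw [LinearMap.mem_ker, f_apply] at hak
  have h2 : a 1 • ∑ x : P, ρ x w = 0 := by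
    rw [Finset.smul_sum, ← hak]
    exact Finset.sum_congr rfl fun x _ => by rw [hconst x]
  exact (smul_eq_zero.mp h2).resolve_left ha1

end Fixed

end Cfsg.Agent.H666
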